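import Mathlib

/-!
# D4 for `Sp_2n(2)`: the model

A group acting faithfully on a symplectic space over `F₂` and containing all transvections; identities between
transvections.
-/

set_option autoImplicit false

namespace Cfsg.Agent.OddHalf.D4.Sp2.Model

/-- A faithful symplectic module over `F₂` for a group generated by all transvections. -/
structure Mod (K V : Type*) [Group K] [AddCommGroup V] [Module (ZMod 2) V] where
  ρ : K →* (V ≃ₗ[ZMod 2] V)
  inj : Function.Injective ρ
  B : V → V → ZMod 2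
  addl : ∀ x y z, B (x + y) z = B x z + B y z
  symm : ∀ x y, B x y = B y x
  alt : ∀ x, B x x = 0
  inv : ∀ k x y, B (ρ k x) (ρ k y) = B x y
  sep : ∀ (U : Submodule (ZMod 2) V) (x : V), x ∉ U → ∃ b, (∀ u ∈ U, B u b = 0) ∧ B x b = 1
  t : V → K
  t_apply : ∀ v x, ρ (t v) x = x + B x v • v
  gen : Subgroup.closure (Set.range t) = ⊤

variable {K V : Type*} [Group K] [AddCommGroup V] [Module (ZMod 2) V]

theorem z2 (c : ZMod 2) : c = 0 ∨ c = 1 := by revert c; decide

theorem z2_ne {c : ZMod 2} (h : c ≠ 0) : c = 1 := by revert c; decide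

theorem z2_ne' {c : ZMod 2} (h : c ≠ 1) : c = 0 := by revert c; decide

omit [Module (ZMod 2) V] in
theorem two_self [Module (ZMod 2) V] (v : V) : v + v = 0 := by
  have : (2 : ZMod 2) • v = v + v := two_smul _ v
  rw [← this, show (2 : ZMod 2) = 0 from rfl, zero_smul]

theorem eq_of_add_eq_zero {v w : V} (h : v + w = 0) : v = w := by
  have := two_self w
  calc v = v + (w + w) := by rw [this, add_zero]
    _ = (v + w) + w := by abel
    _ = w := by rw [h, zero_add]

theorem add_eq_zero_iff {v w : V} : v + w = 0 ↔ v = w :=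
  ⟨eq_of_add_eq_zero, fun h => by rw [h]; exact two_self w⟩

namespace Mod

variable (M : Mod K V)

theorem addr (x y z : V) : M.B x (y + z) = M.B x y + M.B x z := by
  rw [M.symm, M.addl, M.symm y, M.symm z]

theorem zerol (x : V) : M.B 0 x = 0 := by
  have h := M.addl 0 0 x
  rw [add_zero] at h
  exact left_eq_add.mp h

theorem zeror (x : V) : M.B x 0 = 0 := by rw [M.symm, M.zerol]

theorem smull (c : ZMod 2) (x y : V) : M.B (c • x) y = c * M.B x y := by
  rcases z2 c with rfl | rfl
  · rw [zero_smul, zero_mul, M.zerol]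
  · rw [one_smul, one_mul]

theorem smulr (c : ZMod 2) (x y : V) : M.B x (c • y) = c * M.B x y := by
  rw [M.symm, M.smull, M.symm]

theorem mul_apply (k l : K) (v : V) : M.ρ (k * l) v = M.ρ k (M.ρ l v) := by
  rw [map_mul]; rfl

theorem one_apply (v : V) : M.ρ 1 v = v := by
  rw [map_one]; rfl

theorem inv_apply (k : K) (v : V) : M.ρ k⁻¹ (M.ρ k v) = v := by
  rw [← M.mul_apply, inv_mul_cancel, M.one_apply]

theorem apply_inv (k : K) (v : V) : M.ρ k (M.ρ k⁻¹ v) = v := by
  rw [← M.mul_apply, mul_inv_cancel, M.one_apply]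

theorem ext {k l : K} (h : ∀ v, M.ρ k v = M.ρ l v) : k = l :=
  M.inj (LinearEquiv.ext h)

theorem nondeg {x : V} (h : ∀ b, M.B x b = 0) : x = 0 := by
  by_contra hx
  obtain ⟨b, -, hb⟩ := M.sep ⊥ x (by simpa using hx)
  rw [h b] at hb
  exact absurd hb (by decide)

theorem sep0 {x : V} (hx : x ≠ 0) : ∃ b, M.B x b = 1 := by
  obtain ⟨b, -, hb⟩ := M.sep ⊥ x (by simpa using hx)
  exact ⟨b, hb⟩

theorem mem_span1 {x u : V} (h : x ∈ Submodule.span (ZMod 2) {u}) : x = 0 ∨ x = u := by
  rw [Submodule.mem_span_singleton] at h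
  obtain ⟨c, rfl⟩ := h
  rcases z2 c with rfl | rfl
  · left; rw [zero_smul]
  · right; rw [one_smul]

theorem mem_span2 {x u v : V} (h : x ∈ Submodule.span (ZMod 2) {u, v}) :
    x = 0 ∨ x = u ∨ x = v ∨ x = u + v := by
  rw [Submodule.mem_span_pair] at h
  obtain ⟨a, b, rfl⟩ := h
  rcases z2 a with rfl | rfl <;> rcases z2 b with rfl | rfl <;> simp

theorem mem_span3 {x u v w : V} (h : x ∈ Submodule.span (ZMod 2) {u, v, w}) :
    ∃ y, (y = 0 ∨ y = v ∨ y = w ∨ y = v + w) ∧ (x = y ∨ x = u + y) := by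
  rw [Submodule.mem_span_insert] at h
  obtain ⟨a, z, hz, rfl⟩ := h
  refine ⟨z, mem_span2 hz, ?_⟩
  rcases z2 a with rfl | rfl
  · left; rw [zero_smul, zero_add]
  · right; rw [one_smul]

theorem sep1 {x u : V} (hx : x ≠ 0) (hu : x ≠ u) : ∃ b, M.B u b = 0 ∧ M.B x b = 1 := by
  obtain ⟨b, h1, hb⟩ := M.sep (Submodule.span (ZMod 2) {u}) x (by
    intro h
    rcases mem_span1 h with h | h
    · exact hx h
    · exact hu h)
  exact ⟨b, h1 u (Submodule.subset_span (by simp)), hb⟩

theorem sep2 {x u v : V} (hx : x ≠ 0) (hu : x ≠ u) (hv : x ≠ v) (huv : x ≠ u + v) :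
    ∃ b, M.B u b = 0 ∧ M.B v b = 0 ∧ M.B x b = 1 := by
  obtain ⟨b, h1, hb⟩ := M.sep (Submodule.span (ZMod 2) {u, v}) x (by
    intro h
    rcases mem_span2 h with h | h | h | h
    · exact hx h
    · exact hu h
    · exact hv h
    · exact huv h)
  exact ⟨b, h1 u (Submodule.subset_span (by simp)), h1 v (Submodule.subset_span (by simp)), hb⟩

theorem sep3 {x u v w : V} (hx : x ∉ Submodule.span (ZMod 2) {u, v, w}) :
    ∃ b, M.B u b = 0 ∧ M.B v b = 0 ∧ M.B w b = 0 ∧ M.B x b = 1 := by
  obtain ⟨b, h1, hb⟩ := M.sep _ x hx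
  exact ⟨b, h1 u (Submodule.subset_span (by simp)), h1 v (Submodule.subset_span (by simp)),
    h1 w (Submodule.subset_span (by simp)), hb⟩

/-! ### Transvections -/

theorem t_zero : M.t 0 = 1 := by
  apply M.ext
  intro v
  rw [M.t_apply, M.one_apply, smul_zero, add_zero]

theorem t_mul_self (v : V) : M.t v * M.t v = 1 := by
  apply M.ext
  intro x
  rw [M.mul_apply, M.one_apply]
  simp only [M.t_apply, M.addl, M.smull, M.alt]
  match_scalars <;> (generalize M.B x v = α; revert α; decide)

theorem t_inv (v : V) : (M.t v)⁻¹ = M.t v :=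
  inv_eq_of_mul_eq_one_left (M.t_mul_self v)

theorem conj_t (k : K) (v : V) : k * M.t v * k⁻¹ = M.t (M.ρ k v) := by
  apply M.ext
  intro x
  rw [M.mul_apply, M.mul_apply, M.t_apply, M.t_apply, map_add, map_smul, M.apply_inv]
  congr 2
  rw [← M.inv k, M.apply_inv]

theorem t_inj {v w : V} (h : M.t v = M.t w) : v = w := by
  by_cases hv : v = 0
  · by_contra hw
    have hw0 : w ≠ 0 := fun h' => hw (hv.trans h'.symm)
    obtain ⟨b, hb⟩ := M.sep0 hw0
    have h1 : M.ρ (M.t v) b = M.ρ (M.t w) b := by rw [h]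
    rw [M.t_apply, M.t_apply, hv, smul_zero, add_zero, M.symm, hb, one_smul] at h1
    exact hw0 (left_eq_add.mp h1)
  · obtain ⟨b, hb⟩ := M.sep0 hv
    have h1 : M.ρ (M.t v) b = M.ρ (M.t w) b := by rw [h]
    rw [M.t_apply, M.t_apply, M.symm b v, hb, one_smul] at h1
    have h2 := add_left_cancel h1
    rcases z2 (M.B b w) with h3 | h3
    · rw [h3, zero_smul] at h2
      exact absurd h2 hv
    · rw [h3, one_smul] at h2
      exact h2

theorem t_eq_one {v : V} (h : M.t v = 1) : v = 0 := M.t_inj (h.trans M.t_zero.symm)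

theorem comm_t {k : K} {v : V} : k * M.t v = M.t v * k ↔ M.ρ k v = v := by
  rw [← mul_inv_eq_iff_eq_mul, M.conj_t]
  exact ⟨fun h => M.t_inj h, fun h => by rw [h]⟩

theorem t_fix {v w : V} (h : M.B v w = 0) : M.ρ (M.t w) v = v := by
  rw [M.t_apply, h, zero_smul, add_zero]

theorem t_move {v w : V} (h : M.B v w = 1) : M.ρ (M.t w) v = v + w := by
  rw [M.t_apply, h, one_smul]

theorem t_comm {v w : V} (h : M.B v w = 0) : M.t v * M.t w = M.t w * M.t v := by
  rw [M.comm_t]
  exact M.t_fix (by rw [M.symm]; exact h)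

/-- `s(a,r)`, for orthogonal `a`, `r`. -/
def s (a r : V) : K := M.t a * M.t r * M.t (a + r)

theorem s_apply {a r : V} (h : M.B a r = 0) (x : V) :
    M.ρ (M.s a r) x = x + M.B x a • r + M.B x r • a := by
  have h' : M.B r a = 0 := by rw [M.symm]; exact h
  unfold s
  rw [M.mul_apply, M.mul_apply]
  simp only [M.t_apply, M.addl, M.addr, M.smull, M.alt, h, h']
  match_scalars <;> (generalize M.B x a = α; generalize M.B x r = β; revert α β; decide)

theorem conj_s (k : K) (a r : V) : k * M.s a r * k⁻¹ = M.s (M.ρ k a) (M.ρ k r) := by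
  unfold s
  rw [← map_add, ← M.conj_t, ← M.conj_t, ← M.conj_t]
  group

theorem s_symm {a r : V} (h : M.B a r = 0) : M.s a r = M.s r a := by
  unfold s
  rw [M.t_comm h, add_comm a r]

theorem s_add {a r : V} (h : M.B a r = 0) : M.s (a + r) r = M.s a r := by
  have h' : M.B r a = 0 := by rw [M.symm]; exact h
  apply M.ext
  intro x
  rw [M.s_apply h, M.s_apply (by rw [M.addl, h, M.alt, add_zero])]
  simp only [M.addr]
  match_scalars <;> (generalize M.B x a = α; generalize M.B x r = β; revert α β; decide)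

theorem s_mul_self {a r : V} (h : M.B a r = 0) : M.s a r * M.s a r = 1 := by
  have h' : M.B r a = 0 := by rw [M.symm]; exact h
  apply M.ext
  intro x
  rw [M.mul_apply, M.s_apply h, M.s_apply h, M.one_apply]
  simp only [M.addl, M.addr, M.smull, M.alt, h, h']
  match_scalars <;> (generalize M.B x a = α; generalize M.B x r = β; revert α β; decide)

theorem tt_eq {v r : V} (h : M.B v r = 0) : M.t r * M.s v r = M.t v * M.t (v + r) := by
  have h' : M.B r v = 0 := by rw [M.symm]; exact h
  apply M.ext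
  intro x
  simp only [s, M.mul_apply, M.t_apply, M.addl, M.addr, M.smull, M.alt, h, h']
  match_scalars <;> (generalize M.B x v = α; generalize M.B x r = β; revert α β; decide)

theorem r1 {v v' r : V} (h : M.B v v' = 0) (h1 : M.B v r = 0) (h2 : M.B v' r = 0) :
    M.t v * M.t (v + r) * (M.t v' * M.t (v' + r)) = M.t (v + v') * M.t r * M.t (v + v' + r) := by
  have h' : M.B v' v = 0 := by rw [M.symm]; exact h
  have h1' : M.B r v = 0 := by rw [M.symm]; exact h1
  have h2' : M.B r v' = 0 := by rw [M.symm]; exact h2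
  apply M.ext
  intro x
  simp only [M.mul_apply, M.t_apply, M.addl, M.addr, M.smull, M.alt, h, h', h1, h1', h2, h2']
  match_scalars <;>
    (generalize M.B x v = α; generalize M.B x r = β; generalize M.B x v' = γ; revert α β γ; decide)

theorem r2 {v v' r : V} (h : M.B v v' = 1) (h1 : M.B v r = 0) (h2 : M.B v' r = 0) :
    M.t v' * M.t v * (M.t (v + r) * M.t (v' + r)) = M.t v * M.t (v + r) := by
  have h' : M.B v' v = 1 := by rw [M.symm]; exact h
  have h1' : M.B r v = 0 := by rw [M.symm]; exact h1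
  have h2' : M.B r v' = 0 := by rw [M.symm]; exact h2
  apply M.ext
  intro x
  simp only [M.mul_apply, M.t_apply, M.addl, M.addr, M.smull, M.alt, h, h', h1, h1', h2, h2']
  match_scalars <;>
    (generalize M.B x v = α; generalize M.B x r = β; generalize M.B x v' = γ; revert α β γ; decide)

/-- four transvections -/
theorem r3 {v r r' : V} (h1 : M.B v r = 0) (h2 : M.B v r' = 0) (h3 : M.B r r' = 0) :
    M.t v * M.t (v + r) * (M.t (v + r') * M.t (v + r' + r)) = M.s r r' := by
  have h1' : M.B r v = 0 := by rw [M.symm]; exact h1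
  have h2' : M.B r' v = 0 := by rw [M.symm]; exact h2
  have h3' : M.B r' r = 0 := by rw [M.symm]; exact h3
  apply M.ext
  intro x
  simp only [s, M.mul_apply, M.t_apply, M.addl, M.addr, M.smull, M.alt, h1, h1', h2, h2', h3, h3']
  match_scalars <;>
    (generalize M.B x v = α; generalize M.B x r = β; generalize M.B x r' = γ; revert α β γ; decide)

theorem i5_zero {a σ z : V} (h1 : M.B a σ = 0) (h2 : M.B σ z = 0) (h3 : M.B a z = 0) :
    M.t (a + z) * M.t (a + σ + z) * (M.t (a + σ) * M.t a) = M.s σ z := by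
  have h1' : M.B σ a = 0 := by rw [M.symm]; exact h1
  have h2' : M.B z σ = 0 := by rw [M.symm]; exact h2
  have h3' : M.B z a = 0 := by rw [M.symm]; exact h3
  apply M.ext
  intro x
  simp only [s, M.mul_apply, M.t_apply, M.addl, M.addr, M.smull, M.alt, h1, h1', h2, h2', h3, h3']
  match_scalars <;>
    (generalize M.B x a = α; generalize M.B x σ = β; generalize M.B x z = γ; revert α β γ; decide)

theorem i5_one {a σ z : V} (h1 : M.B a σ = 0) (h2 : M.B σ z = 0) (h3 : M.B a z = 1) :
    M.t (a + z) * M.t (a + σ + z) * (M.t (a + σ) * M.t a) = M.t z * M.t (z + σ) := by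
  have h1' : M.B σ a = 0 := by rw [M.symm]; exact h1
  have h2' : M.B z σ = 0 := by rw [M.symm]; exact h2
  have h3' : M.B z a = 1 := by rw [M.symm]; exact h3
  apply M.ext
  intro x
  simp only [M.mul_apply, M.t_apply, M.addl, M.addr, M.smull, M.alt, h1, h1', h2, h2', h3, h3']
  match_scalars <;>
    (generalize M.B x a = α; generalize M.B x σ = β; generalize M.B x z = γ; revert α β γ; decide)

end Mod

end Cfsg.Agent.OddHalf.D4.Sp2.Model
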