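import Mathlib
import Cfsg.Agent.OddHalf.D4.KPair
import Cfsg.Agent.OddHalf.D4.Sp2.Model

/-!
# D4 for `Sp_2n(2)`: linear algebra lemmas and the cases
-/

set_option autoImplicit false

namespace Cfsg.Agent.OddHalf.D4.Sp2.Model

namespace Mod

variable {K V : Type*} [Group K] [AddCommGroup V] [Module (ZMod 2) V] (M : Mod K V)

/-- `uz + z` is orthogonal to the fixed space of `u` -/
theorem diff_perp {u : K} {z v : V} (hv : M.ρ u v = v) : M.B (M.ρ u z + z) v = 0 := by
  rw [M.addl]
  have h : M.B (M.ρ u z) v = M.B z v := by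
    conv_lhs => rw [← hv]
    exact M.inv u z v
  rw [h]
  generalize M.B z v = c
  revert c
  decide

theorem diff_fixed {u : K} (hu : u * u = 1) (z : V) : M.ρ u (M.ρ u z + z) = M.ρ u z + z := by
  rw [map_add, ← M.mul_apply, hu, M.one_apply, add_comm]

/-- a vector orthogonal to the fixed space of an involution is fixed -/
theorem perp_fixed {u : K} (hu : u * u = 1) {y : V} (h : ∀ v, M.ρ u v = v → M.B y v = 0) : M.ρ u y = y := by
  apply eq_of_add_eq_zero
  apply M.nondeg
  intro z
  have h1 : M.B (M.ρ u y) z = M.B y (M.ρ u z) := by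
    rw [← M.inv u (M.ρ u y) z, ← M.mul_apply, hu, M.one_apply]
  rw [M.addl, h1, ← M.addr]
  exact h _ (M.diff_fixed hu z)

/-- an element trivial on the fixed space of an involution has square one -/
theorem sq_of_fix {u y : K} (hu : u * u = 1) (h : ∀ v, M.ρ u v = v → M.ρ y v = v) : y * y = 1 := by
  apply M.ext
  intro z
  have h1 : ∀ v, M.ρ u v = v → M.B (M.ρ y z + z) v = 0 := fun v hv => M.diff_perp (h v hv)
  have h2 := h _ (M.perp_fixed hu h1)
  rw [map_add, ← M.mul_apply] at h2
  rw [M.one_apply]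
  have h3 : M.ρ (y * y) z = (M.ρ (y * y) z + M.ρ y z) + M.ρ y z := by
    rw [add_assoc, two_self, add_zero]
  rw [h3, h2]
  rw [add_comm (M.ρ y z) z, add_assoc, two_self, add_zero]

/-- an element fixing a hyperplane is a transvection -/
theorem fix_ker {x : K} {q : V → ZMod 2} (hq : ∀ a b, q (a + b) = q a + q b)
    (h : ∀ v, q v = 0 → M.ρ x v = v) : x = 1 ∨ ∃ z, z ≠ 0 ∧ x = M.t z := by
  by_cases h0 : ∀ v, q v = 0
  · left
    apply M.ext
    intro v
    rw [h v (h0 v), M.one_apply]
  · push Not at h0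
    obtain ⟨b, hb⟩ := h0
    have hb1 := z2_ne hb
    have key : ∀ v, q v = 1 → q (v + b) = 0 := by
      intro v hv
      rw [hq, hv, hb1]; decide
    have hx : ∀ v, q v = 1 → M.ρ x v = v + (M.ρ x b + b) := by
      intro v hv
      have h1 := h _ (key v hv)
      rw [map_add] at h1
      calc M.ρ x v = M.ρ x v + (M.ρ x b + M.ρ x b) := by rw [two_self, add_zero]
        _ = (M.ρ x v + M.ρ x b) + M.ρ x b := by abel
        _ = v + b + M.ρ x b := by rw [h1]
        _ = _ := by abel
    by_cases hz : M.ρ x b + b = 0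
    · left
      apply M.ext
      intro v
      rw [M.one_apply]
      rcases z2 (q v) with h1 | h1
      · exact h v h1
      · rw [hx v h1, hz, add_zero]
    · right
      refine ⟨M.ρ x b + b, hz, ?_⟩
      have hzv : ∀ v, q v = 0 → M.B (M.ρ x b + b) v = 0 := fun v hv => M.diff_perp (h v hv)
      have hzb : M.B (M.ρ x b + b) b = 1 := by
        apply z2_ne
        intro h1
        apply hz
        apply M.nondeg
        intro v
        rcases z2 (q v) with h2 | h2
        · exact hzv v h2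
        · have h3 := hzv _ (key v h2)
          rw [M.addr, h1, add_zero] at h3
          exact h3
      apply M.ext
      intro v
      rw [M.t_apply]
      rcases z2 (q v) with h1 | h1
      · rw [h v h1, M.symm, hzv v h1, zero_smul, add_zero]
      · have h3 := hzv _ (key v h1)
        rw [M.addr, hzb] at h3
        have h4 : M.B (M.ρ x b + b) v = 1 := by
          revert h3
          generalize M.B (M.ρ x b + b) v = c
          revert c
          decide
        rw [hx v h1, M.symm, h4, one_smul]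

theorem fix_perp {x : K} {e : V} (h : ∀ v, M.B v e = 0 → M.ρ x v = v) : x = 1 ∨ x = M.t e := by
  rcases M.fix_ker (q := fun v => M.B v e) (fun a b => M.addl a b e) h with h1 | ⟨z, hz, rfl⟩
  · left; exact h1
  · right
    congr 1
    by_contra hne
    obtain ⟨b, h1, h2⟩ := M.sep1 hz hne
    have h3 := h b (by rw [M.symm]; exact h1)
    rw [M.t_move (by rw [M.symm]; exact h2)] at h3
    exact hz (left_eq_add.mp h3.symm)

theorem tt_ne_t {a b c : V} (ha : a ≠ 0) (hb : b ≠ 0) (hab : a ≠ b) : M.t a * M.t b ≠ M.t c := by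
  intro h
  obtain ⟨x, h1, h2⟩ := M.sep1 ha hab
  have h3 : M.ρ (M.t a * M.t b) x = M.ρ (M.t c) x := by rw [h]
  rw [M.mul_apply, M.t_fix (v := x) (w := b) (by rw [M.symm]; exact h1),
    M.t_move (v := x) (w := a) (by rw [M.symm]; exact h2), M.t_apply] at h3
  have h4 := add_left_cancel h3
  rcases z2 (M.B x c) with h5 | h5
  · rw [h5, zero_smul] at h4
    exact ha h4
  · rw [h5, one_smul] at h4
    rw [← h4] at h
    have h6 : M.t b = 1 := by
      calc M.t b = (M.t a)⁻¹ * (M.t a * M.t b) := by group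
        _ = 1 := by rw [h, inv_mul_cancel]
    exact hb (M.t_eq_one h6)

theorem tt_eq_s {v u e f : V} (hef : M.B e f = 0) (h : M.t v * M.t u = M.s e f) : v = u := by
  by_contra hne
  -- the alternating property
  have key : ∀ x, M.B x u * M.B x u + M.B x v * M.B x v + M.B x u * M.B u v * M.B x v = 0 := by
    intro x
    have h1 : M.B (M.ρ (M.s e f) x) x = 0 := by
      rw [M.s_apply hef]
      simp only [M.addl, M.smull, M.alt]
      rw [M.symm f x, M.symm e x]
      generalize M.B x e = α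
      generalize M.B x f = β
      revert α β
      decide
    rw [← h, M.mul_apply] at h1
    simp only [M.t_apply, M.addl, M.smull, M.alt] at h1
    rw [M.symm u x, M.symm v x] at h1
    revert h1
    generalize M.B x u = α
    generalize M.B x v = β
    generalize M.B u v = γ
    revert α β γ
    decide
  by_cases hv : v = 0
  · have hu : u ≠ 0 := fun h' => hne (hv.trans h'.symm)
    obtain ⟨x, hx⟩ := M.sep0 hu
    have h1 := key x
    rw [M.symm x u, hx, hv, M.zeror, M.zeror] at h1
    revert h1; decide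
  · obtain ⟨x, h1, h2⟩ := M.sep1 hv hne
    have h3 := key x
    rw [M.symm x u, h1, M.symm x v, h2] at h3
    revert h3
    generalize M.B u v = γ
    revert γ
    decide

/-! ### Commutator control -/

/-- `[C(w), y] ≤ N` -/
def Ctl (N : Subgroup K) (w y : K) : Prop := ∀ d, d * w = w * d → d * (y * d⁻¹ * y⁻¹) ∈ N

variable {N : Subgroup K} {w y : K}

theorem hash (h : Ctl N w y) {v : V} (hv : M.ρ w v = v) : M.t v * M.t (M.ρ y v) ∈ N := by
  have h1 := h (M.t v) (M.comm_t.mpr hv).symm
  rwa [M.t_inv, M.conj_t] at h1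

theorem conj_tt (g : K) (a b : V) : g * (M.t a * M.t b) * g⁻¹ = M.t (M.ρ g a) * M.t (M.ρ g b) := by
  rw [← M.conj_t, ← M.conj_t]; group

/-- `s(r,b)` commutes with `w` if `b` is fixed and `r` is orthogonal to the fixed space... (the version used: `w`
commutes if both are fixed) -/
theorem comm_s {a r : V} (ha : M.ρ w a = a) (hr : M.ρ w r = r) : M.s a r * w = w * M.s a r := by
  have h := M.conj_s w a r
  rw [ha, hr] at h
  rw [mul_inv_eq_iff_eq_mul] at h
  exact h.symm

/-- `im(w - 1)` -/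
def Im (w : K) : Submodule (ZMod 2) V := LinearMap.range (((M.ρ w : V ≃ₗ[ZMod 2] V) : V →ₗ[ZMod 2] V) + LinearMap.id)

theorem mem_Im {r : V} : r ∈ M.Im w ↔ ∃ z, M.ρ w z + z = r := by
  unfold Im
  rw [LinearMap.mem_range]
  rfl

theorem Im_fixed (hw : w * w = 1) {r : V} (hr : r ∈ M.Im w) : M.ρ w r = r := by
  obtain ⟨z, rfl⟩ := M.mem_Im.mp hr
  exact M.diff_fixed hw z

theorem Im_perp {r v : V} (hr : r ∈ M.Im w) (hv : M.ρ w v = v) : M.B r v = 0 := by
  obtain ⟨z, rfl⟩ := M.mem_Im.mp hr
  exact M.diff_perp hv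

theorem Im_map {y : K} (hyw : y * w = w * y) {r : V} (hr : r ∈ M.Im w) : M.ρ y r ∈ M.Im w := by
  obtain ⟨z, rfl⟩ := M.mem_Im.mp hr
  rw [M.mem_Im]
  refine ⟨M.ρ y z, ?_⟩
  rw [map_add, ← M.mul_apply, ← M.mul_apply, hyw]

theorem fixed_of_perp (hw : w * w = 1) {b : V} (h : ∀ r ∈ M.Im w, M.B r b = 0) : M.ρ w b = b := by
  apply eq_of_add_eq_zero
  apply M.nondeg
  intro z
  have h1 : M.B (M.ρ w b) z = M.B b (M.ρ w z) := by
    rw [← M.inv w (M.ρ w b) z, ← M.mul_apply, hw, M.one_apply]
  rw [M.addl, h1, ← M.addr, M.symm]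
  exact h _ (M.mem_Im.mpr ⟨z, rfl⟩)

theorem map_fixed {y : K} (hyw : y * w = w * y) {v : V} (hv : M.ρ w v = v) : M.ρ w (M.ρ y v) = M.ρ y v := by
  rw [← M.mul_apply, ← hyw, M.mul_apply, hv]

/-- the common step: an element `y` commuting with `w`, `[C(w), y] ≤ N`, moving a fixed vector `v` of `w` outside
`im(w-1)` produces `t_v t_{v+r}` in `N`. -/
theorem step (hww : w * w = 1) (hN : ∀ d, d * w = w * d → ∀ n ∈ N, d * n * d⁻¹ ∈ N) (hyw : y * w = w * y)
    (hy : Ctl N w y) {r₀ : V} (hr₀ : r₀ ∈ M.Im w) (hr₀0 : r₀ ≠ 0) (hr₀y : M.ρ y r₀ = r₀)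
    {v : V} (hv : M.ρ w v = v) (hvE : v ∉ M.Im w) (hmv : M.ρ y v ≠ v) :
    ∃ v' r, M.ρ w v' = v' ∧ v' ∉ M.Im w ∧ r ∈ M.Im w ∧ r ≠ 0 ∧ M.t v' * M.t (v' + r) ∈ N := by
  have hyv : M.ρ w (M.ρ y v) = M.ρ y v := M.map_fixed hyw hv
  have h1 := M.hash hy hv
  have hyvE : M.ρ y v ∉ M.Im w := by
    intro hmem
    have h2 := M.Im_map (y := y⁻¹) (by
      calc y⁻¹ * w = y⁻¹ * (w * y) * y⁻¹ := by group
        _ = y⁻¹ * (y * w) * y⁻¹ := by rw [hyw]
        _ = w * y⁻¹ := by group) hmem
    rw [M.inv_apply] at h2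
    exact hvE h2
  by_cases hd : M.ρ y v + v ∈ M.Im w
  · refine ⟨v, M.ρ y v + v, hv, hvE, hd, fun h2 => hmv (eq_of_add_eq_zero h2), ?_⟩
    have : v + (M.ρ y v + v) = M.ρ y v := by
      rw [add_comm (M.ρ y v) v, ← add_assoc, two_self, zero_add]
    rw [this]
    exact h1
  · rcases z2 (M.B v (M.ρ y v)) with h2 | h2
    · -- orthogonal
      obtain ⟨b, hb1, hb2⟩ := M.sep (M.Im w ⊔ Submodule.span (ZMod 2) {v}) (M.ρ y v) (by
        intro hmem
        obtain ⟨r, hr, z, hz, hrz⟩ := Submodule.mem_sup.mp hmem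
        rcases mem_span1 hz with rfl | rfl
        · rw [add_zero] at hrz
          rw [hrz] at hr
          exact hyvE hr
        · apply hd
          rw [← hrz, add_assoc, two_self, add_zero]
          exact hr)
      have hbE : ∀ r ∈ M.Im w, M.B r b = 0 := fun r hr => hb1 r (Submodule.mem_sup_left hr)
      have hbv : M.B v b = 0 := hb1 v (Submodule.mem_sup_right (Submodule.mem_span_singleton_self v))
      have hwb : M.ρ w b = b := M.fixed_of_perp hww hbE
      have hrb : M.B r₀ b = 0 := hbE r₀ hr₀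
      have hg := hN _ (M.comm_s (a := r₀) (r := b) (M.Im_fixed hww hr₀) hwb) _ h1
      rw [M.conj_tt, M.s_apply hrb, M.s_apply hrb, M.symm v r₀, M.Im_perp hr₀ hv, hbv, M.symm _ r₀,
        M.Im_perp hr₀ hyv, hb2] at hg
      simp only [zero_smul, one_smul, add_zero] at hg
      refine ⟨M.ρ y v, r₀, hyv, hyvE, hr₀, hr₀0, ?_⟩
      have h3 := N.mul_mem (N.inv_mem h1) hg
      have h4 : (M.t v * M.t (M.ρ y v))⁻¹ * (M.t v * M.t (M.ρ y v + r₀)) =
          M.t (M.ρ y v) * M.t (M.ρ y v + r₀) := by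
        rw [mul_inv_rev, M.t_inv, M.t_inv]
        calc _ = M.t (M.ρ y v) * (M.t v * M.t v) * M.t (M.ρ y v + r₀) := by group
          _ = _ := by rw [M.t_mul_self, mul_one]
      rw [h4] at h3
      exact h3
    · refine ⟨v, r₀, hv, hvE, hr₀, hr₀0, ?_⟩
      have hv' : M.ρ w (v + r₀) = v + r₀ := by rw [map_add, hv, M.Im_fixed hww hr₀]
      have h3 := M.hash hy hv'
      rw [map_add, hr₀y] at h3
      have h4 := N.mul_mem (N.inv_mem h1) h3
      rw [mul_inv_rev, M.t_inv, M.t_inv, M.r2 h2 (by rw [M.symm]; exact M.Im_perp hr₀ hv)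
        (by rw [M.symm]; exact M.Im_perp hr₀ hyv)] at h4
      exact h4

/-- consequence of `step` -/
theorem fix_of_no_step (hww : w * w = 1) (hN : ∀ d, d * w = w * d → ∀ n ∈ N, d * n * d⁻¹ ∈ N)
    (hyw : y * w = w * y) (hy : Ctl N w y) {r₀ : V} (hr₀ : r₀ ∈ M.Im w) (hr₀0 : r₀ ≠ 0) (hr₀y : M.ρ y r₀ = r₀)
    (hne : ∃ v, M.ρ w v = v ∧ v ∉ M.Im w)
    (hno : ∀ v' r, M.ρ w v' = v' → v' ∉ M.Im w → r ∈ M.Im w → r ≠ 0 → M.t v' * M.t (v' + r) ∉ N) :
    ∀ v, M.ρ w v = v → M.ρ y v = v := by
  have key : ∀ v, M.ρ w v = v → v ∉ M.Im w → M.ρ y v = v := by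
    intro v hv hvE
    by_contra hmv
    obtain ⟨v', r, h1, h2, h3, h4, h5⟩ := M.step hww hN hyw hy hr₀ hr₀0 hr₀y hv hvE hmv
    exact hno v' r h1 h2 h3 h4 h5
  intro v hv
  by_cases hvE : v ∈ M.Im w
  · obtain ⟨u, hu, huE⟩ := hne
    have h1 := key u hu huE
    have h2 := key (u + v) (by rw [map_add, hu, hv]) (fun h => huE (by
      have := (M.Im w).add_mem h hvE
      rwa [add_assoc, two_self, add_zero] at this))
    rw [map_add, h1] at h2
    exact add_left_cancel h2
  · exact key v hv hvE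

/-- **the orbit argument**: `t_a t_{a+r} ∈ N` gives `t_r ∈ N` -/
theorem orbit (hww : w * w = 1) (hN : ∀ d, d * w = w * d → ∀ n ∈ N, d * n * d⁻¹ ∈ N) {a r : V}
    (ha : M.ρ w a = a) (haE : a ∉ M.Im w) (hr : r ∈ M.Im w) (h : M.t a * M.t (a + r) ∈ N)
    (hb : ∃ b, M.ρ w b = b ∧ M.B a b = 0 ∧ b ∉ M.Im w ⊔ Submodule.span (ZMod 2) {a}) : M.t r ∈ N := by
  -- one step
  have st : ∀ x c, M.ρ w x = x → M.ρ w c = c → M.B x c = 1 → M.t x * M.t (x + r) ∈ N →
      M.t (x + c) * M.t (x + c + r) ∈ N := by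
    intro x c hx hc hxc hmem
    have h1 := hN (M.t c) (M.comm_t.mpr hc).symm _ hmem
    rw [M.conj_tt, map_add, M.t_move hxc, M.t_fix (M.Im_perp hr hc)] at h1
    exact h1
  -- two steps
  have st2 : ∀ b, M.ρ w b = b → M.B a b = 0 → a ∉ M.Im w ⊔ Submodule.span (ZMod 2) {a + b} →
      M.t b * M.t (b + r) ∈ N := by
    intro b hwb hab hnot
    obtain ⟨c, hc1, hc2⟩ := M.sep _ a hnot
    have hcE : ∀ r ∈ M.Im w, M.B r c = 0 := fun r hr => hc1 r (Submodule.mem_sup_left hr)
    have hcab : M.B (a + b) c = 0 := hc1 _ (Submodule.mem_sup_right (Submodule.mem_span_singleton_self _))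
    have hwc : M.ρ w c = c := M.fixed_of_perp hww hcE
    have hbc : M.B b c = 1 := by
      rw [M.addl, hc2] at hcab
      revert hcab
      generalize M.B b c = γ
      revert γ
      decide
    have h1 := st a c ha hwc hc2 h
    have h2 := st (a + c) (a + b + c) (by rw [map_add, ha, hwc]) (by rw [map_add, map_add, ha, hwb, hwc])
      (by
        simp only [M.addl, M.addr, M.alt]
        rw [M.symm c a, M.symm c b, hab, hc2, hbc]
        decide) h1
    have h3 : a + c + (a + b + c) = b := by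
      calc a + c + (a + b + c) = (a + a) + (c + c) + b := by abel
        _ = b := by rw [two_self, two_self, zero_add, zero_add]
    rwa [h3] at h2
  obtain ⟨b, hwb, hab, hbE⟩ := hb
  have mem : ∀ {x z : V}, x ∈ M.Im w ⊔ Submodule.span (ZMod 2) {z} → x ∈ M.Im w ∨ x + z ∈ M.Im w := by
    intro x z hmem
    obtain ⟨r, hr, z', hz, hrz⟩ := Submodule.mem_sup.mp hmem
    rcases mem_span1 hz with rfl | rfl
    · left
      rw [add_zero] at hrz
      rwa [hrz] at hr
    · right
      rw [← hrz, add_assoc, two_self, add_zero]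
      exact hr
  have hb1 := st2 b hwb hab (by
    intro hmem
    rcases mem hmem with h1 | h1
    · exact haE h1
    · rw [← add_assoc, two_self, zero_add] at h1
      exact hbE (Submodule.mem_sup_left h1))
  have hb2 := st2 (a + b) (by rw [map_add, ha, hwb]) (by rw [M.addr, M.alt, hab, add_zero]) (by
    intro hmem
    rcases mem hmem with h1 | h1
    · exact haE h1
    · rw [← add_assoc, ← add_assoc, two_self, zero_add] at h1
      apply hbE
      have h2 : b = (a + b) + a := by
        rw [add_comm a b, add_assoc, two_self, add_zero]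
      rw [h2]
      exact Submodule.add_mem _ (Submodule.mem_sup_left h1)
        (Submodule.mem_sup_right (Submodule.mem_span_singleton_self _)))
  have h1 := N.mul_mem h hb1
  rw [M.r1 hab (by rw [M.symm]; exact M.Im_perp hr ha) (by rw [M.symm]; exact M.Im_perp hr hwb)] at h1
  have hcomm : M.t (a + b) * M.t r = M.t r * M.t (a + b) := M.t_comm (by
    rw [M.symm, M.addr, M.Im_perp hr ha, M.Im_perp hr hwb, add_zero])
  rw [hcomm, mul_assoc] at h1
  have h2 := N.mul_mem h1 (N.inv_mem hb2)
  rwa [mul_inv_cancel_right] at h2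

/-! ### The 8 elements trivial on `{e,f}^⊥` -/

theorem fix_two_perp {e f : V} (hef : M.B e f = 0) (he : e ≠ 0) (hf : f ≠ 0) (hne : e ≠ f) {x : K}
    (h : ∀ v, M.B v e = 0 → M.B v f = 0 → M.ρ x v = v) :
    x = 1 ∨ x = M.t e ∨ x = M.t f ∨ x = M.t (e + f) ∨ x = M.t e * M.t f ∨ x = M.t e * M.t (e + f) ∨
      x = M.t f * M.t (e + f) ∨ x = M.s e f := by
  have hfe : M.B f e = 0 := by rw [M.symm]; exact hef
  obtain ⟨b, hfb, heb⟩ := M.sep1 he hne
  obtain ⟨c, hec, hfc⟩ := M.sep1 hf (Ne.symm hne)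
  -- the images of `b` and `c`
  have im : ∀ z, ∃ α β : ZMod 2, M.ρ x z + z = α • e + β • f := by
    intro z
    have h1 : ∀ v, M.B v e = 0 → M.B v f = 0 → M.B (M.ρ x z + z) v = 0 := fun v h1 h2 => M.diff_perp (h v h1 h2)
    by_contra hcon
    push Not at hcon
    obtain ⟨v, h2, h3, h4⟩ := M.sep2 (x := M.ρ x z + z) (u := e) (v := f)
      (by have := hcon 0 0; rwa [zero_smul, zero_smul, add_zero] at this)
      (by have := hcon 1 0; rwa [one_smul, zero_smul, add_zero] at this)
      (by have := hcon 0 1; rwa [zero_smul, one_smul, zero_add] at this)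
      (by have := hcon 1 1; rwa [one_smul, one_smul] at this)
    rw [h1 v (by rw [M.symm]; exact h2) (by rw [M.symm]; exact h3)] at h4
    exact absurd h4 (by decide)
  obtain ⟨α, β, hb⟩ := im b
  obtain ⟨γ, δ, hc⟩ := im c
  have hb' : M.ρ x b = b + (α • e + β • f) := by
    rw [← hb, add_comm (M.ρ x b) b, ← add_assoc, two_self, zero_add]
  have hc' : M.ρ x c = c + (γ • e + δ • f) := by
    rw [← hc, add_comm (M.ρ x c) c, ← add_assoc, two_self, zero_add]
  have hβγ : β = γ := by
    have h1 := M.inv x b c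
    rw [hb', hc'] at h1
    simp only [M.addl, M.addr, M.smull, M.smulr, M.alt, hef, hfe, hec, hfc] at h1
    rw [M.symm b e, heb, M.symm b f, hfb] at h1
    clear hb hc hb' hc'
    revert h1
    generalize M.B b c = κ
    revert α β γ δ κ
    decide
  subst hβγ
  have hx : ∀ v, M.ρ x v = v + (M.B v e • (α • e + β • f) + M.B v f • (β • e + δ • f)) := by
    intro v
    have h1 := h (v + (M.B v e • b + M.B v f • c)) (by
      simp only [M.addl, M.smull]
      rw [M.symm b e, heb, M.symm c e, hec]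
      generalize M.B v e = κ
      generalize M.B v f = μ
      revert κ μ; decide) (by
      simp only [M.addl, M.smull]
      rw [M.symm b f, hfb, M.symm c f, hfc]
      generalize M.B v e = κ
      generalize M.B v f = μ
      revert κ μ; decide)
    rw [map_add, map_add, map_smul, map_smul, hb', hc'] at h1
    have h2 := congrArg (fun z => z + (M.B v e • (b + (α • e + β • f)) + M.B v f • (c + (β • e + δ • f)))) h1
    simp only [add_assoc, two_self, add_zero] at h2
    rw [h2]
    clear hb hc hb' hc' h1 h2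
    match_scalars <;> (generalize M.B v e = κ; generalize M.B v f = μ; revert κ μ α β δ; decide)
  have fin : ∀ y : K, (∀ v, M.ρ y v = v + (M.B v e • (α • e + β • f) + M.B v f • (β • e + δ • f))) → x = y :=
    fun y hy => M.ext fun v => by rw [hx v, hy v]
  rcases z2 α with rfl | rfl <;> rcases z2 β with rfl | rfl <;> rcases z2 δ with rfl | rfl
  · left
    apply fin; intro v; rw [M.one_apply]
    match_scalars <;> (generalize M.B v e = κ; generalize M.B v f = μ; revert κ μ; decide)
  · right; right; left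
    apply fin; intro v; simp only [M.t_apply]
    match_scalars <;> (generalize M.B v e = κ; generalize M.B v f = μ; revert κ μ; decide)
  · iterate 7 right
    apply fin; intro v; rw [M.s_apply hef]
    match_scalars <;> (generalize M.B v e = κ; generalize M.B v f = μ; revert κ μ; decide)
  · iterate 5 right
    left
    apply fin; intro v
    simp only [M.mul_apply, M.t_apply, M.addl, M.addr, M.smull, M.alt, hef, hfe]
    match_scalars <;> (generalize M.B v e = κ; generalize M.B v f = μ; revert κ μ; decide)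
  · right; left
    apply fin; intro v; simp only [M.t_apply]
    match_scalars <;> (generalize M.B v e = κ; generalize M.B v f = μ; revert κ μ; decide)
  · iterate 4 right
    left
    apply fin; intro v
    simp only [M.mul_apply, M.t_apply, M.addl, M.addr, M.smull, M.alt, hef, hfe]
    match_scalars <;> (generalize M.B v e = κ; generalize M.B v f = μ; revert κ μ; decide)
  · iterate 6 right
    left
    apply fin; intro v
    simp only [M.mul_apply, M.t_apply, M.addl, M.addr, M.smull, M.alt, hef, hfe]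
    match_scalars <;> (generalize M.B v e = κ; generalize M.B v f = μ; revert κ μ; decide)
  · iterate 3 right
    left
    apply fin; intro v
    simp only [M.t_apply, M.addr]
    match_scalars <;> (generalize M.B v e = κ; generalize M.B v f = μ; revert κ μ; decide)

/-! ### The generic lemma -/

/-- no product of two commuting transvections in `N`: `y` is trivial on the fixed space of `w` -/
theorem gen_fix (hww : w * w = 1) (hw1 : w ≠ 1) (hTT : ∀ a b, M.B a b = 0 → M.t a * M.t b ∈ N → a = b)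
    (hyw : y * w = w * y) (hy : Ctl N w y) : ∀ v, M.ρ w v = v → M.ρ y v = v := by
  -- a nonzero vector of `im (w - 1)`
  obtain ⟨z, hz⟩ : ∃ z, M.ρ w z ≠ z := by
    by_contra hcon
    push Not at hcon
    exact hw1 (M.ext fun v => by rw [hcon v, M.one_apply])
  have hr : M.ρ w z + z ∈ M.Im w := M.mem_Im.mpr ⟨z, rfl⟩
  have hr0 : M.ρ w z + z ≠ 0 := fun h => hz (eq_of_add_eq_zero h)
  set r := M.ρ w z + z with hrdef
  have hwr := M.Im_fixed hww hr
  have hyr : M.ρ y r = r := by
    have h1 := M.hash hy hwr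
    have h2 := M.Im_perp (M.Im_map hyw hr) hwr
    exact (hTT _ _ (by rw [M.symm]; exact h2) h1).symm
  intro v hv
  have h1 := M.hash hy hv
  rcases z2 (M.B v (M.ρ y v)) with h2 | h2
  · exact (hTT _ _ h2 h1).symm
  · exfalso
    have hv' : M.ρ w (v + r) = v + r := by rw [map_add, hv, hwr]
    have h3 := M.hash hy hv'
    rw [map_add, hyr] at h3
    have h4 := N.mul_mem (N.inv_mem h1) h3
    have hvr : M.B v r = 0 := by rw [M.symm]; exact M.Im_perp hr hv
    rw [mul_inv_rev, M.t_inv, M.t_inv, M.r2 h2 hvr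
      (by rw [M.symm]; exact M.Im_perp hr (M.map_fixed hyw hv))] at h4
    have h5 := hTT _ _ (by rw [M.addr, M.alt, hvr, add_zero]) h4
    exact hr0 (left_eq_add.mp h5)

theorem gen_four (hww : w * w = 1) (hw1 : w ≠ 1) (hTT : ∀ a b, M.B a b = 0 → M.t a * M.t b ∈ N → a = b)
    (hS : ∀ a b, M.B a b = 0 → M.s a b ∈ N → a = 0 ∨ b = 0 ∨ a = b)
    (hyw : y * w = w * y) (hy : Ctl N w y) :
    y = 1 ∨ y = w ∨ ∃ z, z ≠ 0 ∧ (y = M.t z ∨ y = w * M.t z) := by
  have hfix := M.gen_fix hww hw1 hTT hyw hy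
  have hwinv : ∀ a, M.ρ w (M.ρ w a) = a := fun a => by rw [← M.mul_apply, hww, M.one_apply]
  -- the hyperplane
  have main : ∀ a, M.B a (M.ρ w a) = 0 → M.ρ y a = a ∨ M.ρ y a = M.ρ w a := by
    intro a ha
    have hσ : M.ρ w a + a ∈ M.Im w := M.mem_Im.mpr ⟨a, rfl⟩
    set σ := M.ρ w a + a with hσdef
    have hwa : M.ρ w a = a + σ := by
      rw [hσdef, add_comm (M.ρ w a) a, ← add_assoc, two_self, zero_add]
    by_cases hσ0 : σ = 0
    · left
      apply hfix
      rw [hwa, hσ0, add_zero]
    -- `z = ya + a`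
    have hzp : ∀ v, M.ρ w v = v → M.B (M.ρ y a + a) v = 0 := fun v hv => M.diff_perp (hfix v hv)
    have hzfix : M.ρ w (M.ρ y a + a) = M.ρ y a + a := M.perp_fixed hww hzp
    set z := M.ρ y a + a with hzdef
    have hya : M.ρ y a = a + z := by
      rw [hzdef, add_comm (M.ρ y a) a, ← add_assoc, two_self, zero_add]
    have hyσ : M.ρ y σ = σ := hfix _ (M.Im_fixed hww hσ)
    have haσ : M.B a σ = 0 := by
      have h1 := M.addr a (M.ρ w a) a
      rw [ha, M.alt, add_zero] at h1
      exact h1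
    have hσz : M.B σ z = 0 := M.Im_perp hσ hzfix
    -- `g = t_a t_{wa}` commutes with `w`
    have hg : M.t a * M.t (M.ρ w a) * w = w * (M.t a * M.t (M.ρ w a)) := by
      have h1 := M.conj_tt w a (M.ρ w a)
      rw [hwinv] at h1
      rw [M.t_comm ha]
      rw [M.t_comm ha] at h1
      have h2 : w * (M.t (M.ρ w a) * M.t a) = (M.t (M.ρ w a) * M.t a) * w := by
        rw [← mul_inv_eq_iff_eq_mul, h1, ← M.t_comm ha]
      exact h2.symm
    have h1 := hy _ hg
    have h2 : y * (M.t a * M.t (M.ρ w a))⁻¹ * y⁻¹ = M.t (a + σ + z) * M.t (a + z) := by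
      rw [mul_inv_rev, M.t_inv, M.t_inv, M.conj_tt, hya, hwa, map_add, hya, hyσ]
      congr 2
      abel
    rw [h2] at h1
    have h3 := N.inv_mem h1
    have h4 : (M.t a * M.t (M.ρ w a) * (M.t (a + σ + z) * M.t (a + z)))⁻¹ =
        M.t (a + z) * M.t (a + σ + z) * (M.t (a + σ) * M.t a) := by
      rw [hwa]
      simp only [mul_inv_rev, M.t_inv]
    rw [h4] at h3
    rcases z2 (M.B a z) with h5 | h5
    · rw [M.i5_zero haσ hσz h5] at h3
      rcases hS _ _ hσz h3 with h6 | h6 | h6
      · exact absurd h6 hσ0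
      · left
        rw [hya, h6, add_zero]
      · right
        rw [hya, hwa, h6]
    · rw [M.i5_one haσ hσz h5] at h3
      have h6 := hTT _ _ (by rw [M.addr, M.alt, zero_add, M.symm]; exact hσz) h3
      exact absurd (left_eq_add.mp h6) hσ0
  have hq : ∀ a b, M.B (a + b) (M.ρ w (a + b)) = M.B a (M.ρ w a) + M.B b (M.ρ w b) := by
    intro a b
    rw [map_add, M.addl, M.addr, M.addr]
    have h1 : M.B b (M.ρ w a) = M.B a (M.ρ w b) := by
      rw [← M.inv w b (M.ρ w a), hwinv, M.symm]
    rw [h1]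
    generalize M.B a (M.ρ w b) = κ
    generalize M.B a (M.ρ w a) = μ
    generalize M.B b (M.ρ w b) = ν
    revert κ μ ν
    decide
  have split : (∀ a, M.B a (M.ρ w a) = 0 → M.ρ y a = a) ∨
      (∀ a, M.B a (M.ρ w a) = 0 → M.ρ y a = M.ρ w a) := by
    by_contra hcon
    push Not at hcon
    obtain ⟨⟨a, ha, ha'⟩, b, hb, hb'⟩ := hcon
    have h1 := (main a ha).resolve_left ha'
    have h2 := (main b hb).resolve_right hb'
    have h3 : M.B (a + b) (M.ρ w (a + b)) = 0 := by rw [hq, ha, hb, add_zero]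
    rcases main _ h3 with h4 | h4
    · rw [map_add, h2] at h4
      exact ha' (add_right_cancel h4)
    · rw [map_add, map_add, h1] at h4
      exact hb' (add_left_cancel h4)
  rcases split with h | h
  · rcases M.fix_ker (x := y) (q := fun a => M.B a (M.ρ w a)) hq h with h1 | ⟨z, hz, h1⟩
    · left; exact h1
    · right; right; exact ⟨z, hz, Or.inl h1⟩
  · have h' : ∀ a, M.B a (M.ρ w a) = 0 → M.ρ (w * y) a = a := by
      intro a ha
      rw [M.mul_apply, h a ha, hwinv]
    have hcalc : y = w * (w * y) := by rw [← mul_assoc, hww, one_mul]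
    rcases M.fix_ker (x := w * y) (q := fun a => M.B a (M.ρ w a)) hq h' with h1 | ⟨z, hz, h1⟩
    · right; left
      rw [hcalc, h1, mul_one]
    · right; right
      exact ⟨z, hz, Or.inr (by rw [hcalc, h1])⟩

end Mod

end Cfsg.Agent.OddHalf.D4.Sp2.Model
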