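import Mathlib
import Cfsg.Agent.ClassicalGeometry.SympBasic
import Cfsg.Agent.S0765
import Cfsg.Agent.S0270
import Cfsg.Agent.S0814
import Cfsg.Agent.LieClassical.SympCenter
import Cfsg.Agent.LieClassical.FieldTransfer
import Cfsg.Agent.OddHalf.D4.Sp2.Cases

/-!
# D4 for `Sp_2n(2)`: the concrete model
-/

set_option autoImplicit false

open Cfsg
open scoped Matrix

namespace Cfsg.Agent.OddHalf.D4.Sp2.Inst

open Cfsg.Agent.OddHalf.D4.Sp2.Model Cfsg.Agent.ClassicalGeometry.SympBasic

/-- `Sp_2m(2)` -/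
abbrev X (m : ℕ) := Matrix.symplecticGroup (Fin m) (ZMod 2)

/-- the space -/
abbrev W (m : ℕ) := Fin m ⊕ Fin m → ZMod 2

variable {m : ℕ}

/-- the action of a matrix -/
def act (A : X m) : W m ≃ₗ[ZMod 2] W m where
  toFun v := (A : Matrix (Fin m ⊕ Fin m) (Fin m ⊕ Fin m) (ZMod 2)) *ᵥ v
  invFun v := ((A⁻¹ : X m) : Matrix (Fin m ⊕ Fin m) (Fin m ⊕ Fin m) (ZMod 2)) *ᵥ v
  map_add' := Matrix.mulVec_add _
  map_smul' c v := by rw [Matrix.mulVec_smul]; rfl
  left_inv v := by
    show ((A⁻¹ : X m) : Matrix (Fin m ⊕ Fin m) (Fin m ⊕ Fin m) (ZMod 2)) *ᵥ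
      ((A : Matrix (Fin m ⊕ Fin m) (Fin m ⊕ Fin m) (ZMod 2)) *ᵥ v) = v
    rw [← coe_mul_mulVec, inv_mul_cancel]
    simp
  right_inv v := by
    show (A : Matrix (Fin m ⊕ Fin m) (Fin m ⊕ Fin m) (ZMod 2)) *ᵥ
      (((A⁻¹ : X m) : Matrix (Fin m ⊕ Fin m) (Fin m ⊕ Fin m) (ZMod 2)) *ᵥ v) = v
    rw [← coe_mul_mulVec, mul_inv_cancel]
    simp

theorem act_apply (A : X m) (v : W m) : act A v = (A : Matrix (Fin m ⊕ Fin m) (Fin m ⊕ Fin m) (ZMod 2)) *ᵥ v := rfl

theorem sep (U : Submodule (ZMod 2) (W m)) (x : W m) (hx : x ∉ U) :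
    ∃ b, (∀ u ∈ U, sympForm m (ZMod 2) u b = 0) ∧ sympForm m (ZMod 2) x b = 1 := by
  have h1 := LinearMap.BilinForm.orthogonal_orthogonal (B := sympBilin m (ZMod 2)) sympBilin_nondegenerate
    (sympBilin_isAlt (m := m) (F := ZMod 2)).isRefl U
  have h2 : x ∉ LinearMap.BilinForm.orthogonal (sympBilin m (ZMod 2))
      (LinearMap.BilinForm.orthogonal (sympBilin m (ZMod 2)) U) := by rw [h1]; exact hx
  rw [LinearMap.BilinForm.mem_orthogonal_iff] at h2
  push Not at h2
  obtain ⟨b, hb, hbx⟩ := h2
  rw [LinearMap.BilinForm.mem_orthogonal_iff] at hb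
  refine ⟨b, fun u hu => hb u hu, ?_⟩
  apply z2_ne
  intro h
  apply hbx
  show sympForm m (ZMod 2) b x = 0
  rw [sympForm_swap, h, neg_zero]

/-- the model -/
def modX (m : ℕ) : Mod (X m) (W m) where
  ρ :=
    { toFun := act
      map_one' := by
        apply LinearEquiv.ext
        intro v
        rw [act_apply]
        simp
      map_mul' := by
        intro A B
        apply LinearEquiv.ext
        intro v
        rw [act_apply, coe_mul_mulVec]
        rfl }
  inj := by
    intro A B h
    apply Subtype.ext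
    rw [← Matrix.mulVec_injective.eq_iff]
    funext v
    have h1 : act A v = act B v := congrArg (fun f : W m ≃ₗ[ZMod 2] W m => f v) h
    exact h1
  B := sympForm m (ZMod 2)
  addl := sympForm_add_left
  symm := by
    intro x y
    rw [sympForm_swap]
    generalize sympForm m (ZMod 2) y x = c
    revert c
    decide
  alt := sympForm_self
  inv := by
    intro k x y
    exact sympForm_mulVec k.2 x y
  sep := sep
  t v := transv v 1
  t_apply := by
    intro v x
    show act (transv v 1) x = _
    rw [act_apply, coe_transv, sympTransvection_mulVec, one_mul]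
  gen := by
    have h1 := Cfsg.Agent.S0765.result (F := ZMod 2) m
    rw [eq_top_iff, ← h1, Subgroup.closure_le]
    rintro A ⟨w, c, hA⟩
    rcases z2 c with rfl | rfl
    · have : A = 1 := by
        apply Subtype.ext
        rw [hA, sympTransvection_zero]
        rfl
      rw [this]
      exact one_mem _
    · apply Subgroup.subset_closure
      exact ⟨w, Subtype.ext (by rw [coe_transv, hA])⟩

theorem modX_B (x y : W m) : (modX m).B x y = sympForm m (ZMod 2) x y := rfl

theorem big (hm : 4 ≤ m) (a b c : W m) : ∃ x, (modX m).B x a = 0 ∧ (modX m).B x b = 0 ∧ (modX m).B x c = 0 ∧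
    x ∉ Submodule.span (ZMod 2) {a, b, c} := by
  classical
  by_contra hcon
  push Not at hcon
  -- the kernel of `x ↦ (B x a, B x b, B x c)`
  let f : W m →ₗ[ZMod 2] (Fin 3 → ZMod 2) :=
    { toFun := fun x => ![sympForm m (ZMod 2) x a, sympForm m (ZMod 2) x b, sympForm m (ZMod 2) x c]
      map_add' := by
        intro x y
        ext i
        fin_cases i <;> simp [sympForm_add_left]
      map_smul' := by
        intro r x
        ext i
        fin_cases i <;> simp [sympForm_smul_left] }
  have hker : LinearMap.ker f ≤ Submodule.span (ZMod 2) {a, b, c} := by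
    intro x hx
    rw [LinearMap.mem_ker] at hx
    have h1 := congrFun hx 0
    have h2 := congrFun hx 1
    have h3 := congrFun hx 2
    exact hcon x h1 h2 h3
  have h1 := LinearMap.finrank_range_add_finrank_ker f
  have h2 : Module.finrank (ZMod 2) (W m) = m + m := by
    rw [Module.finrank_fintype_fun_eq_card, Fintype.card_sum, Fintype.card_fin]
  have h3 : Module.finrank (ZMod 2) (LinearMap.range f) ≤ 3 := by
    have := Submodule.finrank_le (LinearMap.range f)
    rwa [Module.finrank_fintype_fun_eq_card, Fintype.card_fin] at this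
  have h4 : Module.finrank (ZMod 2) (LinearMap.ker f) ≤ 3 := by
    refine (Submodule.finrank_mono hker).trans ?_
    refine (finrank_span_le_card _).trans ?_
    rw [Set.toFinset_card]
    have : Fintype.card ({a, b, c} : Set (W m)) ≤ 3 := by
      rw [← Nat.card_eq_fintype_card, Nat.card_coe_set_eq]
      refine (Set.ncard_insert_le _ _).trans ?_
      have h5 := Set.ncard_insert_le b ({c} : Set (W m))
      rw [Set.ncard_singleton] at h5
      omega
    exact this
  omega

/-- transport of a model -/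
def congr {K K' V : Type*} [Group K] [Group K'] [AddCommGroup V] [Module (ZMod 2) V] (M : Mod K V)
    (e : K' ≃* K) : Mod K' V where
  ρ := M.ρ.comp e.toMonoidHom
  inj := M.inj.comp e.injective
  B := M.B
  addl := M.addl
  symm := M.symm
  alt := M.alt
  inv k x y := M.inv (e k) x y
  sep := M.sep
  t v := e.symm (M.t v)
  t_apply := by
    intro v x
    show M.ρ (e (e.symm (M.t v))) x = _
    rw [e.apply_symm_apply, M.t_apply]
  gen := by
    have h1 : Set.range (fun v => e.symm (M.t v)) = e.symm.toMonoidHom '' Set.range M.t := by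
      ext x
      simp
    rw [h1, ← MonoidHom.map_closure, M.gen, ← MonoidHom.range_eq_map, MonoidHom.range_eq_top]
    exact e.symm.surjective

theorem congr_B {K K' V : Type*} [Group K] [Group K'] [AddCommGroup V] [Module (ZMod 2) V] (M : Mod K V)
    (e : K' ≃* K) (x y : V) : (congr M e).B x y = M.B x y := rfl

/-! ### Automorphisms -/

theorem center_eq_bot (hm : 1 ≤ m) : Subgroup.center (X m) = ⊥ := by
  rw [Subgroup.eq_bot_iff_card, Cfsg.Agent.LieClassical.SympCenter.card_center hm, ZMod.card]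
  norm_num

theorem exists_equiv₀ (hm : 1 ≤ m) : Nonempty (Cfsg.PSp m (ZMod 2) ≃* X m) :=
  ⟨(QuotientGroup.quotientMulEquivOfEq (center_eq_bot hm)).trans QuotientGroup.quotientBot⟩

theorem exists_equiv (hm : 1 ≤ m) {F : Type*} [Field F] [Fintype F] (hF : Fintype.card F = 2) :
    Nonempty (Cfsg.PSp m F ≃* X m) := by
  have h : Fintype.card F = Fintype.card (ZMod 2) := by rw [hF, ZMod.card]
  obtain ⟨e'⟩ := exists_equiv₀ hm
  exact ⟨(Cfsg.Agent.LieClassical.FieldTransfer.pspCongr m (FiniteField.ringEquivOfCardEq h)).trans e'⟩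

theorem card_mulAut (hm : 3 ≤ m) : Nat.card (MulAut (X m)) = Nat.card (X m) := by
  obtain ⟨e⟩ := exists_equiv₀ (m := m) (by omega)
  have h := Cfsg.Agent.S0814.result (F := ZMod 2) 2 1 le_rfl (by rw [ZMod.card, pow_one]) m (by omega)
    (fun h => absurd h (by omega))
  rw [if_neg (by omega), Nat.card_congr e.toEquiv] at h
  rw [← Nat.card_congr (MulAut.congr e).toEquiv, h]
  norm_num

theorem inner (hm : 3 ≤ m) (α : MulAut (X m)) : ∃ x, α = MulAut.conj x := by
  have hinj : Function.Injective (MulAut.conj : X m →* MulAut (X m)) := by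
    rw [← MonoidHom.ker_eq_bot_iff, eq_bot_iff, ← center_eq_bot (m := m) (by omega)]
    intro x hx
    rw [Subgroup.mem_center_iff]
    intro g
    have h : x * g * x⁻¹ = g := by
      rw [← MulAut.conj_apply, MonoidHom.mem_ker.1 hx]
      rfl
    rw [mul_inv_eq_iff_eq_mul] at h
    exact h.symm
  have hfin : Finite (MulAut (X m)) := inferInstance
  have hbij : Function.Bijective (MulAut.conj : X m →* MulAut (X m)) :=
    (Nat.bijective_iff_injective_and_card _).2 ⟨hinj, (card_mulAut hm).symm⟩
  obtain ⟨x, hx⟩ := hbij.2 α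
  exact ⟨x, hx.symm⟩

theorem inner_of_equiv (hm : 3 ≤ m) {Q : Type*} [Group Q] (e : Q ≃* X m) (α : MulAut Q) :
    ∃ x, α = MulAut.conj x := by
  obtain ⟨y, hy⟩ := inner hm (MulAut.congr e α)
  refine ⟨e.symm y, ?_⟩
  ext q
  have h := DFunLike.congr_fun hy (e q)
  simp only [MulAut.congr_apply, MulEquiv.trans_apply, MulEquiv.symm_apply_apply, MulAut.conj_apply] at h
  apply e.injective
  rw [h]
  simp

end Cfsg.Agent.OddHalf.D4.Sp2.Inst
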