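import Mathlib
import Cfsg.Agent.OddHalf.D4.KPair
import Cfsg.Agent.OddHalf.D4.Sp2.Cases

/-!
# D4 for `Sp_2n(2)`, `n ≥ 4`: no pair
-/

set_option autoImplicit false

namespace Cfsg.Agent.OddHalf.D4.Sp2.Main

open Subgroup Cfsg.Agent.OddHalf.D4.KPair Cfsg.Agent.OddHalf.D4.Sp2.Model
open Cfsg.Agent.OddHalf.D4.Sp2.Model.Mod (Ctl)

variable {K V : Type*} [Group K] [AddCommGroup V] [Module (ZMod 2) V] (M : Mod K V)

include M in
theorem center_trivial {z : K} (h : ∀ k, k * z = z * k) : z = 1 := by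
  apply M.ext
  intro v
  rw [M.one_apply, ← M.comm_t, h]

include M in
theorem conj_injective : Function.Injective (MulAut.conj : K →* MulAut K) := by
  rw [injective_iff_map_eq_one]
  intro z hz
  apply center_trivial M
  intro k
  have h1 : MulAut.conj z k = k := by rw [hz]; rfl
  rw [MulAut.conj_apply, mul_inv_eq_iff_eq_mul] at h1
  exact h1.symm

theorem conj_commute {u k : K} : MulAut.conj u k = k ↔ k * u = u * k := by
  rw [MulAut.conj_apply, mul_inv_eq_iff_eq_mul, eq_comm]

include M in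
/-- K-fact: no odd normal subgroups in centralizers of involutions -/
theorem noCore {R : Subgroup (MulAut K)} (out : ∀ α : MulAut K, ∃ k, α = MulAut.conj k) : NoCore R := by
  intro r _ hrr hr1 Y hY hYn ho
  obtain ⟨u, rfl⟩ := out r
  have huu : u * u = 1 := by
    apply conj_injective M
    rw [map_mul, hrr, map_one]
  have hu1 : u ≠ 1 := by
    rintro rfl
    exact hr1 (map_one _)
  have hodd : ∀ y ∈ Y, y * y = 1 → y = 1 := by
    intro y hy hyy
    have h1 : orderOf (⟨y, hy⟩ : ↥Y) ∣ Nat.card ↥Y := orderOf_dvd_natCard _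
    rw [Subgroup.orderOf_mk] at h1
    have h2 : orderOf y ∣ 2 := orderOf_dvd_of_pow_eq_one (by rw [pow_two]; exact hyy)
    have h3 : Nat.Coprime (Nat.card ↥Y) 2 := ho.coprime_two_right
    exact orderOf_eq_one_iff.mp (Nat.eq_one_of_dvd_coprimes h3 h1 h2)
  have hYn' : ∀ k, k * u = u * k → ∀ y ∈ Y, k * y * k⁻¹ ∈ Y := fun k hk => hYn k (conj_commute.mpr hk)
  rw [eq_bot_iff]
  intro y hy
  rw [mem_bot]
  apply hodd y hy
  apply M.sq_of_fix huu
  apply M.gen_fix (N := Y) huu hu1
  · intro a b hab hmem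
    have h1 := hodd _ hmem (by
      have h2 := M.t_comm hab
      calc M.t a * M.t b * (M.t a * M.t b) = M.t a * (M.t b * M.t a) * M.t b := by group
        _ = M.t a * (M.t a * M.t b) * M.t b := by rw [h2]
        _ = (M.t a * M.t a) * (M.t b * M.t b) := by group
        _ = 1 := by rw [M.t_mul_self, M.t_mul_self, one_mul])
    apply M.t_inj
    rw [← M.t_inv b]
    exact mul_eq_one_iff_eq_inv.mp h1
  · exact conj_commute.mp (hY y hy)
  · intro d hd
    have h1 := Y.mul_mem (hYn' d hd y hy) (Y.inv_mem hy)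
    have e : d * (y * d⁻¹ * y⁻¹) = d * y * d⁻¹ * y⁻¹ := by group
    rwa [e]

variable {D N : Subgroup K} {R : Subgroup (MulAut K)}

/-- `y` induces an element of `R` -/
def Rk (R : Subgroup (MulAut K)) : Subgroup K := R.comap MulAut.conj

theorem mem_Rk {y : K} : y ∈ Rk R ↔ MulAut.conj y ∈ R := Iff.rfl

include M in
theorem four (P : Pair D N R) (out : ∀ α : MulAut K, ∃ k, α = MulAut.conj k) :
    ∃ a ∈ Rk R, ∃ b ∈ Rk R, a * a = 1 ∧ b * b = 1 ∧ a ≠ 1 ∧ b ≠ 1 ∧ a ≠ b := by
  obtain ⟨a, ha, b, hb, haa, hbb, _, ha1, hb1, hne⟩ := P.four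
  obtain ⟨x, rfl⟩ := out a
  obtain ⟨y, rfl⟩ := out b
  refine ⟨x, ha, y, hb, conj_injective M (by rw [map_mul, haa, map_one]),
    conj_injective M (by rw [map_mul, hbb, map_one]), ?_, ?_, ?_⟩
  · rintro rfl; exact ha1 (map_one _)
  · rintro rfl; exact hb1 (map_one _)
  · rintro rfl; exact hne rfl

include M in
theorem not_pair (P : Pair D N R) (out : ∀ α : MulAut K, ∃ k, α = MulAut.conj k) (w : K)
    (h : ∀ y ∈ Rk R, y = 1 ∨ y = w) : False := by
  obtain ⟨a, ha, b, hb, _, _, ha1, hb1, hne⟩ := four M P out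
  apply hne
  rw [(h a ha).resolve_left ha1, (h b hb).resolve_left hb1]

include M in
theorem cent_Rk (P : Pair D N R) {y : K} (hy : y ∈ Rk R) (hyy : y * y = 1) (hy1 : y ≠ 1) {k : K}
    (hk : k * y = y * k) : k ∈ D := by
  apply P.centR _ hy (by rw [← map_mul, hyy, map_one]) _ k (conj_commute.mpr hk)
  intro h
  exact hy1 (conj_injective M (by rw [h, map_one]))

theorem comm_Rk (P : Pair D N R) {y d : K} (hy : y ∈ Rk R) (hd : d ∈ D) : d * (y * d⁻¹ * y⁻¹) ∈ N := by
  have h := P.comm _ hy d hd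
  rw [MulAut.conj_apply] at h
  have e : (y * d * y⁻¹)⁻¹ = y * d⁻¹ * y⁻¹ := by group
  rwa [e] at h

/-- control from `C(w) ≤ D` -/
theorem ctl_Rk (P : Pair D N R) {w y : K} (hC : ∀ d, d * w = w * d → d ∈ D) (hy : y ∈ Rk R) : Ctl N w y :=
  fun d hd => comm_Rk P hy (hC d hd)

theorem ctl_N (P : Pair D N R) {w y : K} (hC : ∀ d, d * w = w * d → d ∈ D) (hy : y ∈ N) : Ctl N w y := by
  intro d hd
  have h1 := N.mul_mem (P.norm d (hC d hd) y hy) (N.inv_mem hy)
  have e : d * (y * d⁻¹ * y⁻¹) = d * y * d⁻¹ * y⁻¹ := by group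
  rwa [e]

theorem pair_isPGroup {w : K} (hww : w * w = 1) (h : ∀ x ∈ N, x = 1 ∨ x = w) : IsPGroup 2 ↥N := by
  intro x
  refine ⟨1, ?_⟩
  apply Subtype.ext
  rw [pow_one, SubmonoidClass.coe_pow, pow_two]
  rcases h x x.2 with h1 | h1
  · rw [h1, one_mul]; rfl
  · rw [h1, hww]; rfl

/-- the end when `N = {1, w}` and `w` is not a transvection -/
theorem finish (P : Pair D N R) (out : ∀ α : MulAut K, ∃ k, α = MulAut.conj k) {w : K} (hw : w ∈ N)
    (hww : w * w = 1) (hw1 : w ≠ 1) (hwt : ∀ z, w ≠ M.t z) (hN : ∀ x ∈ N, x = 1 ∨ x = w)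
    (h : ∀ y ∈ Rk R, (∀ z, z ≠ 0 → M.t z ∉ Rk R) → w ∈ Rk R → y * w = w * y → Ctl N w y → y = 1 ∨ y = w) : False := by
  have hC : ∀ d, d * w = w * d → d ∈ D := P.centN w hw hww hw1
  have hD : ∀ d ∈ D, d * w = w * d := by
    intro d hd
    rcases hN _ (P.norm d hd w hw) with h1 | h1
    · exfalso
      apply hw1
      calc w = d⁻¹ * (d * w * d⁻¹) * d := by group
        _ = 1 := by rw [h1]; group
    · exact mul_inv_eq_iff_eq_mul.mp h1
  have hwR : w ∈ Rk R := P.big (pair_isPGroup hww hN) w hw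
  have hnt : ∀ z, z ≠ 0 → M.t z ∉ Rk R := by
    intro z hz hmem
    have h1 : ∀ v, M.B v z = 0 → M.ρ w v = v := by
      intro v hv
      have h2 : M.t v ∈ D := cent_Rk M P hmem (M.t_mul_self z) (fun h => hz (M.t_eq_one h)) (M.t_comm hv)
      exact M.comm_t.mp (hD _ h2).symm
    rcases M.fix_perp h1 with h2 | h2
    · exact hw1 h2
    · exact hwt z h2
  apply not_pair M P out w
  intro y hy
  have hyw : y * w = w * y := by
    have h1 := P.mapN _ hy w hw
    rw [MulAut.conj_apply] at h1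
    rcases hN _ h1 with h2 | h2
    · exfalso
      apply hw1
      calc w = y⁻¹ * (y * w * y⁻¹) * y := by group
        _ = 1 := by rw [h2]; group
    · exact mul_inv_eq_iff_eq_mul.mp h2
  exact h y hy hnt hwR hyw (ctl_Rk P hC hy)

/-! ### Case 1: a transvection in `N` -/

theorem t_fixed {e v : V} (he : e ≠ 0) (h : M.ρ (M.t e) v = v) : M.B v e = 0 := by
  rw [M.t_apply] at h
  have h1 := add_eq_left.mp h
  rcases z2 (M.B v e) with h2 | h2
  · exact h2
  · rw [h2, one_smul] at h1
    exact absurd h1 he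

theorem Im_t {e r : V} (h : r ∈ M.Im (M.t e)) : r = 0 ∨ r = e := by
  obtain ⟨z, rfl⟩ := M.mem_Im.mp h
  rw [M.t_apply]
  rcases z2 (M.B z e) with h2 | h2
  · left; rw [h2, zero_smul, add_zero]; exact two_self z
  · right; rw [h2, one_smul, add_comm z e, add_assoc, two_self, add_zero]

theorem mem_Im_t {e : V} (he : e ≠ 0) : e ∈ M.Im (M.t e) := by
  obtain ⟨b, hb⟩ := M.sep0 he
  rw [M.mem_Im]
  refine ⟨b, ?_⟩
  rw [M.t_move (by rw [M.symm]; exact hb), add_comm b e, add_assoc, two_self, add_zero]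

theorem case_one [Finite K] (P : Pair D N R) (out : ∀ α : MulAut K, ∃ k, α = MulAut.conj k)
    (big : ∀ a b c : V, ∃ x, M.B x a = 0 ∧ M.B x b = 0 ∧ M.B x c = 0 ∧ x ∉ Submodule.span (ZMod 2) {a, b, c})
    {e : V} (he : e ≠ 0) (hte : M.t e ∈ N) : False := by
  have hC : ∀ d, d * M.t e = M.t e * d → d ∈ D :=
    P.centN _ hte (M.t_mul_self e) (fun h => he (M.t_eq_one h))
  have hNn : ∀ d, d * M.t e = M.t e * d → ∀ n ∈ N, d * n * d⁻¹ ∈ N := fun d hd => P.norm d (hC d hd)
  have hno : ∀ v r, M.ρ (M.t e) v = v → v ∉ M.Im (M.t e) → r ∈ M.Im (M.t e) → r ≠ 0 →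
      M.t v * M.t (v + r) ∉ N := by
    intro v r hv hvE hr hr0 hmem
    have hre := (Im_t M hr).resolve_left hr0
    subst hre
    have hve : M.B v r = 0 := t_fixed M he hv
    have hv0 : v ≠ 0 := fun h => hvE (by rw [h]; exact Submodule.zero_mem _)
    have hvr : v ≠ r := fun h => hvE (by rw [h]; exact hr)
    have hs : M.s v r ∈ N := by
      have h1 := N.mul_mem hte hmem
      have h2 : M.s v r = M.t r * (M.t v * M.t (v + r)) := by
        show M.t v * M.t r * M.t (v + r) = _
        rw [M.t_comm hve, mul_assoc]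
      rw [h2]; exact h1
    have hs1 : M.s v r ≠ 1 := by
      intro h1
      have h2 := M.tt_eq hve
      rw [h1, mul_one] at h2
      exact M.tt_ne_t hv0 (fun h3 => hvr (eq_of_add_eq_zero h3)) (fun h3 => he (left_eq_add.mp h3)) h2.symm
    obtain ⟨b, hb1, hb2⟩ := M.sep1 (x := v) (u := v + r) hv0 (fun h3 => he (left_eq_add.mp h3))
    have hb3 : M.B r b = 1 := by
      rw [M.addl, hb2] at hb1
      revert hb1
      generalize M.B r b = γ
      revert γ
      decide
    -- the swap
    have hrv : M.B r v = 0 := by rw [M.symm]; exact hve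
    have hgr : M.ρ (M.s (v + r) b) r = v := by
      rw [M.s_apply hb1, M.addr, hrv, M.alt, add_zero, zero_smul, add_zero, hb3, one_smul,
        add_comm v r, ← add_assoc, two_self, zero_add]
    have hgv : M.ρ (M.s (v + r) b) v = r := by
      rw [M.s_apply hb1, M.addr, hve, M.alt, add_zero, zero_smul, add_zero, hb2, one_smul,
        ← add_assoc, two_self, zero_add]
    have hgD : M.s (v + r) b ∈ D := by
      apply P.centN _ hs (M.s_mul_self hve) hs1
      have h1 := M.conj_s (M.s (v + r) b) v r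
      rw [hgr, hgv, M.s_symm hrv, mul_inv_eq_iff_eq_mul] at h1
      exact h1
    have htv : M.t v ∈ N := by
      have h1 := P.norm _ hgD _ hte
      rwa [M.conj_t, hgr] at h1
    have htvr : M.t (v + r) ∈ N := by
      have h1 := N.mul_mem (N.inv_mem htv) hmem
      rwa [inv_mul_cancel_left] at h1
    apply P.ne
    rw [eq_top_iff, ← M.gen, closure_le]
    rintro _ ⟨c, rfl⟩
    show M.t c ∈ D
    rcases z2 (M.B c r) with h1 | h1
    · exact hC _ (M.t_comm h1)
    · rcases z2 (M.B c v) with h2 | h2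
      · exact P.centN _ htv (M.t_mul_self v) (fun h => hv0 (M.t_eq_one h)) _ (M.t_comm h2)
      · exact P.centN _ htvr (M.t_mul_self _) (fun h => hvr (eq_of_add_eq_zero (M.t_eq_one h))) _
          (M.t_comm (by rw [M.addr, h1, h2]; decide))
  have hne : ∃ v, M.ρ (M.t e) v = v ∧ v ∉ M.Im (M.t e) := by
    obtain ⟨x, hx, _, _, hx'⟩ := big e 0 0
    refine ⟨x, M.t_fix hx, fun h => hx' ?_⟩
    rcases Im_t M h with h1 | h1
    · rw [h1]; exact Submodule.zero_mem _
    · rw [h1]; exact Submodule.subset_span (by simp)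
  have hX : ∀ y, y * M.t e = M.t e * y → Ctl N (M.t e) y → y = 1 ∨ y = M.t e := by
    intro y hye hy
    apply M.fix_perp
    intro v hv
    exact M.fix_of_no_step (M.t_mul_self e) hNn hye hy (mem_Im_t M he) he (M.comm_t.mp hye) hne hno v (M.t_fix hv)
  have hN := P.eq_pair (noCore M out) hte (M.t_mul_self e) (fun h => he (M.t_eq_one h))
    (fun x hx hxe => hX x hxe (ctl_N P hC hx))
  apply not_pair M P out (M.t e)
  intro y hy
  refine hX y ?_ (ctl_Rk P hC hy)
  have h1 := P.mapN _ hy _ hte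
  rw [MulAut.conj_apply] at h1
  rcases hN _ h1 with h2 | h2
  · exfalso
    apply he
    apply M.t_eq_one
    calc M.t e = y⁻¹ * (y * M.t e * y⁻¹) * y := by group
      _ = 1 := by rw [h2]; group
  · exact mul_inv_eq_iff_eq_mul.mp h2

/-! ### Case 2: `s(e,f) ∈ N` -/

theorem s_fixed {e f v : V} (hef : M.B e f = 0) (he : e ≠ 0) (hf : f ≠ 0) (hne : e ≠ f)
    (h : M.ρ (M.s e f) v = v) : M.B v e = 0 ∧ M.B v f = 0 := by
  rw [M.s_apply hef, add_assoc] at h
  have h1 := add_eq_left.mp h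
  rcases z2 (M.B v e) with h2 | h2 <;> rcases z2 (M.B v f) with h3 | h3
  · exact ⟨h2, h3⟩
  · rw [h2, h3, zero_smul, zero_add, one_smul] at h1
    exact absurd h1 he
  · rw [h2, h3, zero_smul, add_zero, one_smul] at h1
    exact absurd h1 hf
  · rw [h2, h3, one_smul, one_smul] at h1
    exact absurd (eq_of_add_eq_zero h1).symm hne

theorem s_fix {e f v : V} (hef : M.B e f = 0) (h1 : M.B v e = 0) (h2 : M.B v f = 0) : M.ρ (M.s e f) v = v := by
  rw [M.s_apply hef, h1, h2, zero_smul, zero_smul, add_zero, add_zero]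

theorem Im_s {e f r : V} (hef : M.B e f = 0) (h : r ∈ M.Im (M.s e f)) : r = 0 ∨ r = e ∨ r = f ∨ r = e + f := by
  obtain ⟨z, rfl⟩ := M.mem_Im.mp h
  rw [M.s_apply hef]
  have e1 : z + M.B z e • f + M.B z f • e + z = M.B z e • f + M.B z f • e := by
    calc z + M.B z e • f + M.B z f • e + z = (z + z) + (M.B z e • f + M.B z f • e) := by abel
      _ = _ := by rw [two_self, zero_add]
  rw [e1]
  rcases z2 (M.B z e) with h2 | h2 <;> rcases z2 (M.B z f) with h3 | h3 <;> rw [h2, h3] <;>
    simp [add_comm]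

theorem mem_Im_s {e f : V} (hef : M.B e f = 0) (hf : f ≠ 0) (hne : e ≠ f) : e ∈ M.Im (M.s e f) := by
  obtain ⟨b, hb1, hb2⟩ := M.sep1 hf (Ne.symm hne)
  rw [M.mem_Im]
  refine ⟨b, ?_⟩
  rw [M.s_apply hef, M.symm b e, hb1, M.symm b f, hb2, zero_smul, one_smul, add_zero, add_comm b e, add_assoc,
    two_self, add_zero]

theorem s_ne_t {e f z : V} (hef : M.B e f = 0) (he : e ≠ 0) (hf : f ≠ 0) (hne : e ≠ f) : M.s e f ≠ M.t z := by
  intro h
  have h1 := M.tt_eq_s (v := z) (u := 0) hef (by rw [M.t_zero, mul_one]; exact h.symm)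
  rw [h1, M.t_zero] at h
  have h2 : M.t e * M.t f = M.t (e + f) := by
    have h3 : M.t e * M.t f * M.t (e + f) = 1 := h
    rw [← M.t_inv (e + f)]
    exact mul_eq_one_iff_eq_inv.mp h3
  exact M.tt_ne_t he hf hne h2

theorem case_two [Finite K] (P : Pair D N R) (out : ∀ α : MulAut K, ∃ k, α = MulAut.conj k)
    (big : ∀ a b c : V, ∃ x, M.B x a = 0 ∧ M.B x b = 0 ∧ M.B x c = 0 ∧ x ∉ Submodule.span (ZMod 2) {a, b, c})
    (hT : ∀ v, M.t v ∈ N → v = 0) {e f : V} (hef : M.B e f = 0) (he : e ≠ 0) (hf : f ≠ 0) (hne : e ≠ f)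
    (hs : M.s e f ∈ N) : False := by
  have hfe : M.B f e = 0 := by rw [M.symm]; exact hef
  have hww := M.s_mul_self hef
  have hwt : ∀ z, M.s e f ≠ M.t z := fun z => s_ne_t M hef he hf hne
  have hw1 : M.s e f ≠ 1 := by rw [← M.t_zero]; exact hwt 0
  have hC : ∀ d, d * M.s e f = M.s e f * d → d ∈ D := P.centN _ hs hww hw1
  have hNn : ∀ d, d * M.s e f = M.s e f * d → ∀ n ∈ N, d * n * d⁻¹ ∈ N := fun d hd => P.norm d (hC d hd)
  have hcee : M.t e * M.t (e + f) = M.t (e + f) * M.t e := M.t_comm (by rw [M.addr, M.alt, hef, add_zero])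
  have hcfe : M.t f * M.t (e + f) = M.t (e + f) * M.t f := M.t_comm (by rw [M.addr, M.alt, hfe, add_zero])
  have hcef := M.t_comm hef
  have hw3 : M.s e f = M.t e * M.t f * M.t (e + f) := rfl
  have hw2 : M.s e f = M.t e * M.t (e + f) * M.t f := by rw [hw3, mul_assoc, hcfe, ← mul_assoc]
  have hw1' : M.s e f = M.t f * M.t (e + f) * M.t e := by
    rw [hw3, hcef, mul_assoc, hcee, ← mul_assoc]
  have hef0 : e + f ≠ 0 := fun h => hne (eq_of_add_eq_zero h)
  -- products of two of the three transvections are not in `N`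
  have no2 : ∀ (a b : V), M.t a * M.t b * M.t b = M.t a := fun a b => by rw [mul_assoc, M.t_mul_self, mul_one]
  have n1 : M.t e * M.t f ∉ N := by
    intro h
    have h1 := N.mul_mem (N.inv_mem h) hs
    rw [hw3, inv_mul_cancel_left] at h1
    exact hef0 (hT _ h1)
  have n2 : M.t e * M.t (e + f) ∉ N := by
    intro h
    have h1 := N.mul_mem (N.inv_mem h) hs
    rw [hw2, inv_mul_cancel_left] at h1
    exact hf (hT _ h1)
  have n3 : M.t f * M.t (e + f) ∉ N := by
    intro h
    have h1 := N.mul_mem (N.inv_mem h) hs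
    rw [hw1', inv_mul_cancel_left] at h1
    exact he (hT _ h1)
  have hImle : M.Im (M.s e f) ≤ Submodule.span (ZMod 2) {e, f} := by
    intro r hr
    rcases Im_s M hef hr with h | h | h | h
    · rw [h]; exact Submodule.zero_mem _
    · rw [h]; exact Submodule.subset_span (by simp)
    · rw [h]; exact Submodule.subset_span (by simp)
    · rw [h]; exact Submodule.add_mem _ (Submodule.subset_span (by simp)) (Submodule.subset_span (by simp))
  have hno : ∀ v r, M.ρ (M.s e f) v = v → v ∉ M.Im (M.s e f) → r ∈ M.Im (M.s e f) → r ≠ 0 →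
      M.t v * M.t (v + r) ∉ N := by
    intro v r hv hvE hr hr0 hmem
    apply hr0
    apply hT
    apply M.orbit hww hNn hv hvE hr hmem
    obtain ⟨b, hb1, hb2, hb3, hb4⟩ := big e f v
    refine ⟨b, s_fix M hef hb1 hb2, by rw [M.symm]; exact hb3, fun h => hb4 ?_⟩
    refine (sup_le (hImle.trans (Submodule.span_mono ?_)) (Submodule.span_mono ?_)) h
    · intro x hx
      simp only [Set.mem_insert_iff, Set.mem_singleton_iff] at hx ⊢
      tauto
    · intro x hx
      simp only [Set.mem_insert_iff, Set.mem_singleton_iff] at hx ⊢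
      tauto
  have hevex : ∃ v, M.ρ (M.s e f) v = v ∧ v ∉ M.Im (M.s e f) := by
    obtain ⟨b, hb1, hb2, _, hb4⟩ := big e f 0
    refine ⟨b, s_fix M hef hb1 hb2, fun h => hb4 ?_⟩
    refine Submodule.span_mono ?_ (hImle h)
    intro x hx
    simp only [Set.mem_insert_iff, Set.mem_singleton_iff] at hx ⊢
    tauto
  have hXfix : ∀ y, y * M.s e f = M.s e f * y → Ctl N (M.s e f) y → ∀ v, M.ρ (M.s e f) v = v → M.ρ y v = v := by
    intro y hyw hy
    have hemem := mem_Im_s M hef hf hne
    refine M.fix_of_no_step hww hNn hyw hy hemem he ?_ hevex hno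
    have h1 := M.hash hy (s_fix M hef (M.alt e) hef)
    rcases Im_s M hef (M.Im_map hyw hemem) with h2 | h2 | h2 | h2
    · exfalso
      apply he
      have := M.inv_apply y e
      rw [h2, map_zero] at this
      exact this.symm
    · exact h2
    · rw [h2] at h1; exact absurd h1 n1
    · rw [h2] at h1; exact absurd h1 n2
  have h8 : ∀ y, y * M.s e f = M.s e f * y → Ctl N (M.s e f) y → _ := fun y hyw hy =>
    M.fix_two_perp (x := y) hef he hf hne (fun v h1 h2 => hXfix y hyw hy v (s_fix M hef h1 h2))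
  have hN := P.eq_pair (noCore M out) hs hww hw1 (by
    intro x hx hxw
    rcases h8 x hxw (ctl_N P hC hx) with h | h | h | h | h | h | h | h
    · left; exact h
    · rw [h] at hx; exact absurd (hT _ hx) he
    · rw [h] at hx; exact absurd (hT _ hx) hf
    · rw [h] at hx; exact absurd (hT _ hx) hef0
    · rw [h] at hx; exact absurd hx n1
    · rw [h] at hx; exact absurd hx n2
    · rw [h] at hx; exact absurd hx n3
    · right; exact h)
  apply finish M P out hs hww hw1 hwt hN
  intro y hy hnt hwR hyw hyc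
  rcases h8 y hyw hyc with h | h | h | h | h | h | h | h
  · left; exact h
  · rw [h] at hy; exact absurd hy (hnt _ he)
  · rw [h] at hy; exact absurd hy (hnt _ hf)
  · rw [h] at hy; exact absurd hy (hnt _ hef0)
  · exfalso
    rw [h] at hy
    have h1 := (Rk R).mul_mem ((Rk R).inv_mem hy) hwR
    rw [hw3, inv_mul_cancel_left] at h1
    exact hnt _ hef0 h1
  · exfalso
    rw [h] at hy
    have h1 := (Rk R).mul_mem ((Rk R).inv_mem hy) hwR
    rw [hw2, inv_mul_cancel_left] at h1
    exact hnt _ hf h1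
  · exfalso
    rw [h] at hy
    have h1 := (Rk R).mul_mem ((Rk R).inv_mem hy) hwR
    rw [hw1', inv_mul_cancel_left] at h1
    exact hnt _ he h1
  · right; exact h

/-! ### Case 3: `t_e t_f ∈ N` -/

theorem tt_apply {e f : V} (hef : M.B e f = 0) (v : V) :
    M.ρ (M.t e * M.t f) v = v + (M.B v e • e + M.B v f • f) := by
  have hfe : M.B f e = 0 := by rw [M.symm]; exact hef
  rw [M.mul_apply]
  simp only [M.t_apply, M.addl, M.smull, hfe, mul_zero, add_zero]
  abel

theorem tt_fix {e f v : V} (hef : M.B e f = 0) (h1 : M.B v e = 0) (h2 : M.B v f = 0) :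
    M.ρ (M.t e * M.t f) v = v := by
  rw [tt_apply M hef, h1, h2, zero_smul, zero_smul, add_zero, add_zero]

theorem tt_fixed {e f v : V} (hef : M.B e f = 0) (he : e ≠ 0) (hf : f ≠ 0) (hne : e ≠ f)
    (h : M.ρ (M.t e * M.t f) v = v) : M.B v e = 0 ∧ M.B v f = 0 := by
  rw [tt_apply M hef] at h
  have h1 := add_eq_left.mp h
  rcases z2 (M.B v e) with h2 | h2 <;> rcases z2 (M.B v f) with h3 | h3
  · exact ⟨h2, h3⟩
  · rw [h2, h3, zero_smul, zero_add, one_smul] at h1
    exact absurd h1 hf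
  · rw [h2, h3, zero_smul, add_zero, one_smul] at h1
    exact absurd h1 he
  · rw [h2, h3, one_smul, one_smul] at h1
    exact absurd (eq_of_add_eq_zero h1) hne

theorem Im_tt {e f r : V} (hef : M.B e f = 0) (h : r ∈ M.Im (M.t e * M.t f)) :
    r = 0 ∨ r = e ∨ r = f ∨ r = e + f := by
  obtain ⟨z, rfl⟩ := M.mem_Im.mp h
  rw [tt_apply M hef]
  have e1 : z + (M.B z e • e + M.B z f • f) + z = M.B z e • e + M.B z f • f := by
    calc z + (M.B z e • e + M.B z f • f) + z = (z + z) + (M.B z e • e + M.B z f • f) := by abel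
      _ = _ := by rw [two_self, zero_add]
  rw [e1]
  rcases z2 (M.B z e) with h2 | h2 <;> rcases z2 (M.B z f) with h3 | h3 <;> rw [h2, h3] <;> simp

theorem mem_Im_tt_left {e f : V} (hef : M.B e f = 0) (he : e ≠ 0) (hne : e ≠ f) : e ∈ M.Im (M.t e * M.t f) := by
  obtain ⟨b, hb1, hb2⟩ := M.sep1 he hne
  rw [M.mem_Im]
  refine ⟨b, ?_⟩
  rw [tt_apply M hef, M.symm b e, hb2, M.symm b f, hb1, zero_smul, one_smul, add_zero, add_comm b e, add_assoc,
    two_self, add_zero]

theorem mem_Im_tt_right {e f : V} (hef : M.B e f = 0) (hf : f ≠ 0) (hne : e ≠ f) :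
    f ∈ M.Im (M.t e * M.t f) := by
  obtain ⟨b, hb1, hb2⟩ := M.sep1 hf (Ne.symm hne)
  rw [M.mem_Im]
  refine ⟨b, ?_⟩
  rw [tt_apply M hef, M.symm b e, hb1, M.symm b f, hb2, zero_smul, one_smul, zero_add, add_comm b f, add_assoc,
    two_self, add_zero]

/-- an element commuting with `t_e t_f` fixes `e + f` -/
theorem tt_comm_fix {e f : V} (hef : M.B e f = 0) {y : K}
    (hy : y * (M.t e * M.t f) = M.t e * M.t f * y) : M.ρ y (e + f) = e + f := by
  apply eq_of_add_eq_zero
  apply M.nondeg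
  have key : ∀ z, M.B (M.ρ (M.t e * M.t f) z) z = M.B (e + f) z := by
    intro z
    rw [tt_apply M hef]
    simp only [M.addl, M.smull, M.alt]
    rw [M.symm e z, M.symm f z]
    generalize M.B z e = α
    generalize M.B z f = β
    revert α β
    decide
  intro z
  have h1 : M.B (M.ρ y (e + f)) z = M.B (e + f) z := by
    have h2 := M.inv y (e + f) (M.ρ y⁻¹ z)
    rw [M.apply_inv] at h2
    rw [h2, ← key, ← key]
    rw [← M.inv y, M.apply_inv]
    congr 1
    rw [← M.mul_apply, hy, M.mul_apply, M.apply_inv]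
  rw [M.addl, h1]
  generalize M.B (e + f) z = κ
  revert κ
  decide

theorem tt_ne_one {a b : V} (hab : a ≠ b) : M.t a * M.t b ≠ 1 := by
  intro h
  apply hab
  apply M.t_inj
  rw [← M.t_inv b]
  exact mul_eq_one_iff_eq_inv.mp h

theorem tt_mul_self {a b : V} (hab : M.B a b = 0) : M.t a * M.t b * (M.t a * M.t b) = 1 := by
  have h2 := M.t_comm hab
  calc M.t a * M.t b * (M.t a * M.t b) = M.t a * (M.t b * M.t a) * M.t b := by group
    _ = M.t a * (M.t a * M.t b) * M.t b := by rw [h2]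
    _ = (M.t a * M.t a) * (M.t b * M.t b) := by group
    _ = 1 := by rw [M.t_mul_self, M.t_mul_self, one_mul]

theorem exists_swap {a c : V} (hac : M.B a c = 0) (ha : a ≠ 0) (hc : c ≠ 0) :
    ∃ d : K, M.ρ d a = c ∧ M.ρ d c = a ∧ d * d = 1 := by
  obtain ⟨b, hb1, hb2⟩ := M.sep1 (x := a) (u := a + c) ha (fun h => hc (left_eq_add.mp h))
  have hb3 : M.B c b = 1 := by
    rw [M.addl, hb2] at hb1
    revert hb1
    generalize M.B c b = γ
    revert γ
    decide
  have hca : M.B c a = 0 := by rw [M.symm]; exact hac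
  refine ⟨M.s (a + c) b, ?_, ?_, M.s_mul_self hb1⟩
  · rw [M.s_apply hb1, M.addr, hac, M.alt, add_zero, zero_smul, add_zero, hb2, one_smul, ← add_assoc, two_self,
      zero_add]
  · rw [M.s_apply hb1, M.addr, hca, M.alt, add_zero, zero_smul, add_zero, hb3, one_smul, add_comm a c,
      ← add_assoc, two_self, zero_add]

theorem three_fix {w y : K} {e f : V} (hw : w = M.t e * M.t f)
    (big : ∀ a b c : V, ∃ x, M.B x a = 0 ∧ M.B x b = 0 ∧ M.B x c = 0 ∧ x ∉ Submodule.span (ZMod 2) {a, b, c})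
    (hS : ∀ a b, M.B a b = 0 → M.s a b ∈ N → a = 0 ∨ b = 0 ∨ a = b)
    (hef : M.B e f = 0) (he : e ≠ 0) (hf : f ≠ 0) (hne : e ≠ f)
    (hNn : ∀ d, d * w = w * d → ∀ n ∈ N, d * n * d⁻¹ ∈ N)
    (hyw : y * w = w * y) (hy : Ctl N w y) : ∀ v, M.B v e = 0 → M.B v f = 0 → M.ρ y v = v := by
  have hww : w * w = 1 := by rw [hw]; exact tt_mul_self M hef
  have heI : e ∈ M.Im w := by rw [hw]; exact mem_Im_tt_left M hef he hne
  have hfI : f ∈ M.Im w := by rw [hw]; exact mem_Im_tt_right M hef hf hne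
  have hImle : M.Im w ≤ Submodule.span (ZMod 2) {e, f} := by
    intro r hr
    rw [hw] at hr
    rcases Im_tt M hef hr with h | h | h | h
    · rw [h]; exact Submodule.zero_mem _
    · rw [h]; exact Submodule.subset_span (by simp)
    · rw [h]; exact Submodule.subset_span (by simp)
    · rw [h]; exact Submodule.add_mem _ (Submodule.subset_span (by simp)) (Submodule.subset_span (by simp))
  have hno : ∀ v r, M.ρ w v = v → v ∉ M.Im w → r ∈ M.Im w → r ≠ 0 → M.t v * M.t (v + r) ∉ N := by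
    intro v r hv hvE hr hr0 hmem
    obtain ⟨r', hr', hr'0, hrr'⟩ : ∃ r', r' ∈ M.Im w ∧ r' ≠ 0 ∧ r ≠ r' := by
      by_cases h : r = e
      · exact ⟨f, hfI, hf, by rw [h]; exact hne⟩
      · exact ⟨e, heI, he, h⟩
    obtain ⟨b, hb1, hb2⟩ := M.sep _ v hvE
    have hwb : M.ρ w b = b := M.fixed_of_perp hww hb1
    have hrb : M.B r' b = 0 := hb1 r' hr'
    have h1 := hNn _ (M.comm_s (a := r') (r := b) (M.Im_fixed hww hr') hwb) _ hmem
    have e1 : M.ρ (M.s r' b) v = v + r' := by
      rw [M.s_apply hrb, M.symm v r', M.Im_perp hr' hv, hb2, zero_smul, one_smul, add_zero]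
    have hrr : M.B r r' = 0 := M.Im_perp hr (M.Im_fixed hww hr')
    have e2 : M.ρ (M.s r' b) r = r := by
      rw [M.s_apply hrb, hrr, hb1 r hr, zero_smul, zero_smul, add_zero, add_zero]
    rw [M.conj_tt, map_add, e1, e2] at h1
    have h2 := N.mul_mem hmem h1
    rw [M.r3 (by rw [M.symm]; exact M.Im_perp hr hv) (by rw [M.symm]; exact M.Im_perp hr' hv) hrr] at h2
    rcases hS _ _ hrr h2 with h | h | h
    · exact hr0 h
    · exact hr'0 h
    · exact hrr' h
  have hevex : ∃ v, M.ρ w v = v ∧ v ∉ M.Im w := by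
    obtain ⟨b, hb1, hb2, _, hb4⟩ := big e f 0
    refine ⟨b, by rw [hw]; exact tt_fix M hef hb1 hb2, fun h => hb4 ?_⟩
    refine Submodule.span_mono ?_ (hImle h)
    intro x hx
    simp only [Set.mem_insert_iff, Set.mem_singleton_iff] at hx ⊢
    tauto
  have hfixed : M.ρ y (e + f) = e + f := tt_comm_fix M hef (by rw [← hw]; exact hyw)
  intro v h1 h2
  exact M.fix_of_no_step hww hNn hyw hy ((M.Im w).add_mem heI hfI) (fun h => hne (eq_of_add_eq_zero h)) hfixed
    hevex hno v (by rw [hw]; exact tt_fix M hef h1 h2)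

/-- case 3, `t_e t_{e+f} ∉ N` -/
theorem case_three_a [Finite K] (P : Pair D N R) (out : ∀ α : MulAut K, ∃ k, α = MulAut.conj k)
    (big : ∀ a b c : V, ∃ x, M.B x a = 0 ∧ M.B x b = 0 ∧ M.B x c = 0 ∧ x ∉ Submodule.span (ZMod 2) {a, b, c})
    (hT : ∀ v, M.t v ∈ N → v = 0) (hS : ∀ a b, M.B a b = 0 → M.s a b ∈ N → a = 0 ∨ b = 0 ∨ a = b)
    {e f : V} (hef : M.B e f = 0) (he : e ≠ 0) (hf : f ≠ 0) (hne : e ≠ f)
    (hs : M.t e * M.t f ∈ N) (hnot : M.t e * M.t (e + f) ∉ N) : False := by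
  have hfe : M.B f e = 0 := by rw [M.symm]; exact hef
  have hww := tt_mul_self M hef
  have hwt : ∀ z, M.t e * M.t f ≠ M.t z := fun z => M.tt_ne_t he hf hne
  have hw1 : M.t e * M.t f ≠ 1 := tt_ne_one M hne
  have hC : ∀ d, d * (M.t e * M.t f) = M.t e * M.t f * d → d ∈ D := P.centN _ hs hww hw1
  have hNn : ∀ d, d * (M.t e * M.t f) = M.t e * M.t f * d → ∀ n ∈ N, d * n * d⁻¹ ∈ N :=
    fun d hd => P.norm d (hC d hd)
  have hef0 : e + f ≠ 0 := fun h => hne (eq_of_add_eq_zero h)
  have h8 : ∀ y, y * (M.t e * M.t f) = M.t e * M.t f * y → Ctl N (M.t e * M.t f) y → _ := fun y hyw hy =>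
    M.fix_two_perp (x := y) hef he hf hne (three_fix M rfl big hS hef he hf hne hNn hyw hy)
  have hN := P.eq_pair (noCore M out) hs hww hw1 (by
    intro x hx hxw
    rcases h8 x hxw (ctl_N P hC hx) with h | h | h | h | h | h | h | h
    · left; exact h
    · rw [h] at hx; exact absurd (hT _ hx) he
    · rw [h] at hx; exact absurd (hT _ hx) hf
    · rw [h] at hx; exact absurd (hT _ hx) hef0
    · right; exact h
    · rw [h] at hx; exact absurd hx hnot
    · exfalso
      rw [h] at hx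
      have h1 := N.mul_mem hs hx
      have h2 : M.t e * M.t f * (M.t f * M.t (e + f)) = M.t e * M.t (e + f) := by
        rw [mul_assoc, ← mul_assoc (M.t f) (M.t f), M.t_mul_self, one_mul]
      rw [h2] at h1
      exact hnot h1
    · rw [h] at hx
      rcases hS _ _ hef hx with h1 | h1 | h1
      · exact absurd h1 he
      · exact absurd h1 hf
      · exact absurd h1 hne)
  have hD : ∀ d ∈ D, d * (M.t e * M.t f) * d⁻¹ = M.t e * M.t f := by
    intro d hd
    rcases hN _ (P.norm d hd _ hs) with h1 | h1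
    · exfalso
      apply hw1
      calc M.t e * M.t f = d⁻¹ * (d * (M.t e * M.t f) * d⁻¹) * d := by group
        _ = 1 := by rw [h1]; group
    · exact h1
  -- the swap argument
  have sw : ∀ a c b : V, M.B a c = 0 → a ≠ 0 → c ≠ 0 → a ≠ c → b = a + c → M.t a * M.t b = M.t e * M.t f →
      M.t a * M.t c ∉ Rk R := by
    intro a c b hac ha hc hac' hb hw hmem
    obtain ⟨d, hd1, hd2, _⟩ := exists_swap M hac ha hc
    have hdD : d ∈ D := by
      apply cent_Rk M P hmem (tt_mul_self M hac) (tt_ne_one M hac')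
      have h1 := M.conj_tt d a c
      rw [hd1, hd2, ← M.t_comm hac, mul_inv_eq_iff_eq_mul] at h1
      exact h1
    have h1 := hD d hdD
    rw [← hw, M.conj_tt, hd1, hb, map_add, hd1, hd2, add_comm c a] at h1
    exact hac' (M.t_inj (mul_right_cancel h1)).symm
  apply finish M P out hs hww hw1 hwt hN
  intro y hy hnt hwR hyw hyc
  rcases h8 y hyw hyc with h | h | h | h | h | h | h | h
  · left; exact h
  · rw [h] at hy; exact absurd hy (hnt _ he)
  · rw [h] at hy; exact absurd hy (hnt _ hf)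
  · rw [h] at hy; exact absurd hy (hnt _ hef0)
  · right; exact h
  · exfalso
    rw [h] at hy
    refine sw e (e + f) f (by rw [M.addr, M.alt, hef, add_zero]) he hef0 (fun h => hf (left_eq_add.mp h))
      (by rw [← add_assoc, two_self, zero_add]) rfl hy
  · exfalso
    rw [h] at hy
    refine sw f (e + f) e (by rw [M.addr, M.alt, hfe, add_zero]) hf hef0 (fun h => he (right_eq_add.mp h))
      (by rw [add_comm e f, ← add_assoc, two_self, zero_add]) (M.t_comm hfe) hy
  · exfalso
    rw [h] at hy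
    have h1 := (Rk R).mul_mem ((Rk R).inv_mem hwR) hy
    rw [show M.s e f = M.t e * M.t f * M.t (e + f) from rfl, inv_mul_cancel_left] at h1
    exact hnt _ hef0 h1

/-- the four-group generated by two commuting involutions -/
def klein {A B : K} (hA : A * A = 1) (hB : B * B = 1) (hAB : A * B = B * A) : Subgroup K where
  carrier := {x | x = 1 ∨ x = A ∨ x = B ∨ x = A * B}
  one_mem' := Or.inl rfl
  mul_mem' := by
    have h1 : A * B * A = B := by rw [hAB, mul_assoc, hA, mul_one]
    have h2 : A * B * B = A := by rw [mul_assoc, hB, mul_one]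
    have h3 : A * (A * B) = B := by rw [← mul_assoc, hA, one_mul]
    have h4 : B * (A * B) = A := by rw [hAB, ← mul_assoc, hB, one_mul]
    have h5 : A * B * (A * B) = 1 := by rw [← mul_assoc, h1, hB]
    rintro x y (rfl | rfl | rfl | rfl) (rfl | rfl | rfl | rfl) <;>
      simp [hA, hB, h1, h2, h3, h4, h5, hAB.symm]
  inv_mem' := by
    rintro x (rfl | rfl | rfl | rfl)
    · left; exact inv_one
    · right; left; exact inv_eq_of_mul_eq_one_left hA
    · right; right; left; exact inv_eq_of_mul_eq_one_left hB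
    · right; right; right
      rw [mul_inv_rev, inv_eq_of_mul_eq_one_left hA, inv_eq_of_mul_eq_one_left hB, hAB]

theorem mem_klein {A B : K} (hA : A * A = 1) (hB : B * B = 1) (hAB : A * B = B * A) {x : K} :
    x ∈ klein hA hB hAB ↔ x = 1 ∨ x = A ∨ x = B ∨ x = A * B := Iff.rfl

/-- case 3, `t_e t_{e+f} ∈ N` -/
theorem case_three_b [Finite K] (P : Pair D N R) (hinn : Inn D N R) (out : ∀ α : MulAut K, ∃ k, α = MulAut.conj k)
    (big : ∀ a b c : V, ∃ x, M.B x a = 0 ∧ M.B x b = 0 ∧ M.B x c = 0 ∧ x ∉ Submodule.span (ZMod 2) {a, b, c})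
    (hT : ∀ v, M.t v ∈ N → v = 0) (hS : ∀ a b, M.B a b = 0 → M.s a b ∈ N → a = 0 ∨ b = 0 ∨ a = b)
    {e f : V} (hef : M.B e f = 0) (he : e ≠ 0) (hf : f ≠ 0) (hne : e ≠ f)
    (hs : M.t e * M.t f ∈ N) (hs' : M.t e * M.t (e + f) ∈ N) : False := by
  have hfe : M.B f e = 0 := by rw [M.symm]; exact hef
  have hef' : M.B e (e + f) = 0 := by rw [M.addr, M.alt, hef, add_zero]
  have hfe' : M.B f (e + f) = 0 := by rw [M.addr, M.alt, hfe, add_zero]
  have hww := tt_mul_self M hef
  have hww' := tt_mul_self M hef'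
  have hef0 : e + f ≠ 0 := fun h => hne (eq_of_add_eq_zero h)
  have hne' : e ≠ e + f := fun h => hf (left_eq_add.mp h)
  have hne'' : f ≠ e + f := fun h => he (right_eq_add.mp h)
  have hw1 : M.t e * M.t f ≠ 1 := tt_ne_one M hne
  have hcom : M.t e * M.t f * (M.t e * M.t (e + f)) = M.t e * M.t (e + f) * (M.t e * M.t f) := by
    have h1 := M.t_comm hef
    have h2 := M.t_comm hef'
    have h3 := M.t_comm hfe'
    calc M.t e * M.t f * (M.t e * M.t (e + f)) = M.t e * (M.t f * M.t e) * M.t (e + f) := by group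
      _ = M.t e * M.t e * (M.t f * M.t (e + f)) := by rw [← h1]; group
      _ = M.t e * M.t e * (M.t (e + f) * M.t f) := by rw [h3]
      _ = M.t e * (M.t e * M.t (e + f)) * M.t f := by group
      _ = M.t e * (M.t (e + f) * M.t e) * M.t f := by rw [h2]
      _ = _ := by group
  have hprod : M.t e * M.t f * (M.t e * M.t (e + f)) = M.t f * M.t (e + f) := by
    have h1 := M.t_comm hef
    calc M.t e * M.t f * (M.t e * M.t (e + f)) = (M.t e * M.t f) * M.t e * M.t (e + f) := by group
      _ = (M.t f * M.t e) * M.t e * M.t (e + f) := by rw [h1]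
      _ = M.t f * (M.t e * M.t e) * M.t (e + f) := by group
      _ = _ := by rw [M.t_mul_self, mul_one]
  set W := klein hww hww' hcom with hWdef
  have memW : ∀ {x : K}, x ∈ W ↔ x = 1 ∨ x = M.t e * M.t f ∨ x = M.t e * M.t (e + f) ∨ x = M.t f * M.t (e + f) := by
    intro x
    rw [hWdef, mem_klein, hprod]
  have hWN : W ≤ N := by
    intro x hx
    rcases memW.mp hx with h | h | h | h
    · rw [h]; exact N.one_mem
    · rw [h]; exact hs
    · rw [h]; exact hs'
    · rw [h, ← hprod]; exact N.mul_mem hs hs'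
  -- the fixed spaces
  have fixW : ∀ x ∈ W, ∀ v, M.B v e = 0 → M.B v f = 0 → M.ρ x v = v := by
    intro x hx v h1 h2
    have h3 : M.B v (e + f) = 0 := by rw [M.addr, h1, h2, add_zero]
    rcases memW.mp hx with h | h | h | h
    · rw [h, M.one_apply]
    · rw [h]; exact tt_fix M hef h1 h2
    · rw [h]; exact tt_fix M hef' h1 h3
    · rw [h]; exact tt_fix M hfe' h2 h3
  have fixedW : ∀ x ∈ W, x ≠ 1 → ∀ v, M.ρ x v = v → M.B v e = 0 ∧ M.B v f = 0 := by
    intro x hx hx1 v hv
    rcases memW.mp hx with h | h | h | h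
    · exact absurd h hx1
    · rw [h] at hv; exact tt_fixed M hef he hf hne hv
    · rw [h] at hv
      obtain ⟨h1, h2⟩ := tt_fixed M hef' he hef0 hne' hv
      rw [M.addr, h1, zero_add] at h2
      exact ⟨h1, h2⟩
    · rw [h] at hv
      obtain ⟨h1, h2⟩ := tt_fixed M hfe' hf hef0 hne'' hv
      rw [M.addr, h1, add_zero] at h2
      exact ⟨h2, h1⟩
  have commW : ∀ a ∈ W, ∀ b ∈ W, a * b = b * a := by
    intro a ha b hb
    have sq : ∀ x ∈ W, x * x = 1 := by
      intro x hx
      rcases memW.mp hx with h | h | h | h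
      · rw [h, one_mul]
      · rw [h]; exact hww
      · rw [h]; exact hww'
      · rw [h]; exact tt_mul_self M hfe'
    have h1 := sq _ (W.mul_mem ha hb)
    have h2 : b * a = (a * b)⁻¹ := by
      rw [mul_inv_rev, inv_eq_of_mul_eq_one_left (sq a ha), inv_eq_of_mul_eq_one_left (sq b hb)]
    rw [h2, inv_eq_of_mul_eq_one_left h1]
  have W2 : IsPGroup 2 ↥W := by
    intro x
    refine ⟨1, ?_⟩
    apply Subtype.ext
    rw [pow_one, SubmonoidClass.coe_pow, pow_two]
    rcases memW.mp x.2 with h | h | h | h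
    · rw [h, one_mul]; rfl
    · rw [h]; exact hww
    · rw [h]; exact hww'
    · rw [h]; exact tt_mul_self M hfe'
  have hC : ∀ d, d * (M.t e * M.t f) = M.t e * M.t f * d → d ∈ D := P.centN _ hs hww hw1
  have hNn : ∀ d, d * (M.t e * M.t f) = M.t e * M.t f * d → ∀ n ∈ N, d * n * d⁻¹ ∈ N :=
    fun d hd => P.norm d (hC d hd)
  have inN : ∀ x ∈ N, (x = 1 ∨ x = M.t e ∨ x = M.t f ∨ x = M.t (e + f) ∨ x = M.t e * M.t f ∨
      x = M.t e * M.t (e + f) ∨ x = M.t f * M.t (e + f) ∨ x = M.s e f) → x ∈ W := by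
    intro x hx h8
    rw [memW]
    rcases h8 with h | h | h | h | h | h | h | h
    · left; exact h
    · rw [h] at hx; exact absurd (hT _ hx) he
    · rw [h] at hx; exact absurd (hT _ hx) hf
    · rw [h] at hx; exact absurd (hT _ hx) hef0
    · right; left; exact h
    · right; right; left; exact h
    · right; right; right; exact h
    · rw [h] at hx
      rcases hS _ _ hef hx with h1 | h1 | h1
      · exact absurd h1 he
      · exact absurd h1 hf
      · exact absurd h1 hne
  have cW : ∀ x ∈ N, x * (M.t e * M.t f) = M.t e * M.t f * x → x ∈ W := fun x hx hxw =>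
    inN x hx (M.fix_two_perp hef he hf hne (three_fix M rfl big hS hef he hf hne hNn hxw (ctl_N P hC hx)))
  have pres : ∀ x : K, (∀ y ∈ W, x * y * x⁻¹ ∈ W) → ∀ v, M.B v e = 0 → M.B v f = 0 →
      M.B (M.ρ x v) e = 0 ∧ M.B (M.ρ x v) f = 0 := by
    intro x hx v h1 h2
    apply fixedW _ (hx _ (memW.mpr (Or.inr (Or.inl rfl))))
    · intro h
      apply hw1
      calc M.t e * M.t f = x⁻¹ * (x * (M.t e * M.t f) * x⁻¹) * x := by group
        _ = 1 := by rw [h]; group
    · rw [← M.mul_apply, inv_mul_cancel_right, M.mul_apply, tt_fix M hef h1 h2]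
  have key : ∀ x : K, (∀ y ∈ W, x * y * x⁻¹ ∈ W) → Ctl N (M.t e * M.t f) x →
      ∀ v, M.B v e = 0 → M.B v f = 0 → M.ρ x v = v := by
    intro x hx hxc
    have main : ∀ v, M.B v e = 0 → M.B v f = 0 → v ∉ Submodule.span (ZMod 2) {e, f} → M.ρ x v = v := by
      intro v h1 h2 h3
      obtain ⟨h4, h5⟩ := pres x hx v h1 h2
      have h6 := M.hash hxc (tt_fix M hef h1 h2)
      have h7 : M.t v * M.t (M.ρ x v) ∈ W := by
        apply cW _ h6
        have c1 := (M.comm_t.mpr (tt_fix M hef h1 h2)).symm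
        have c2 := (M.comm_t.mpr (tt_fix M hef h4 h5)).symm
        calc M.t v * M.t (M.ρ x v) * (M.t e * M.t f) = M.t v * (M.t (M.ρ x v) * (M.t e * M.t f)) := by group
          _ = M.t v * (M.t e * M.t f * M.t (M.ρ x v)) := by rw [c2]
          _ = (M.t v * (M.t e * M.t f)) * M.t (M.ρ x v) := by group
          _ = (M.t e * M.t f * M.t v) * M.t (M.ρ x v) := by rw [c1]
          _ = _ := by group
      obtain ⟨u, hu, huv⟩ := M.sep _ v h3
      have hue : M.B u e = 0 := by rw [M.symm]; exact hu e (Submodule.subset_span (by simp))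
      have huf : M.B u f = 0 := by rw [M.symm]; exact hu f (Submodule.subset_span (by simp))
      have h8 := fixW _ h7 u hue huf
      have hv0 : v ≠ 0 := fun h => h3 (by rw [h]; exact Submodule.zero_mem _)
      have hz0 : M.ρ x v ≠ 0 := by
        intro h
        apply hv0
        have := M.inv_apply x v
        rw [h, map_zero] at this
        exact this.symm
      rw [M.mul_apply, M.t_apply, M.t_apply, M.addl, M.smull, M.symm u v, huv, add_assoc] at h8
      have h9 := add_eq_left.mp h8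
      rcases z2 (M.B u (M.ρ x v)) with h10 | h10
      · rw [h10, zero_smul, zero_mul, add_zero, zero_add, one_smul] at h9
        exact absurd h9 hv0
      · rw [h10, one_smul, one_mul] at h9
        rcases z2 (M.B (M.ρ x v) v) with h11 | h11
        · rw [h11, add_zero, one_smul] at h9
          exact eq_of_add_eq_zero h9
        · rw [h11, show (1 : ZMod 2) + 1 = 0 from rfl, zero_smul, add_zero] at h9
          exact absurd h9 hz0
    obtain ⟨u, hu1, hu2, _, hu3⟩ := big e f 0
    have hu4 : u ∉ Submodule.span (ZMod 2) {e, f} := by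
      intro h
      apply hu3
      refine Submodule.span_mono ?_ h
      intro x hx
      simp only [Set.mem_insert_iff, Set.mem_singleton_iff] at hx ⊢
      tauto
    intro v h1 h2
    by_cases h3 : v ∈ Submodule.span (ZMod 2) {e, f}
    · have h4 := main u hu1 hu2 hu4
      have h5 := main (u + v) (by rw [M.addl, hu1, h1, add_zero]) (by rw [M.addl, hu2, h2, add_zero])
        (fun h => hu4 (by
          have := Submodule.add_mem _ h h3
          rwa [add_assoc, two_self, add_zero] at this))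
      rw [map_add, h4] at h5
      exact add_left_cancel h5
    · exact main v h1 h2 h3
  have hNW : N = W := P.eq_of_self_normalizing (noCore M out) hWN W2 commW (fun x hx hxW =>
    inN x hx (M.fix_two_perp hef he hf hne (key x hxW (ctl_N P hC hx))))
  have hWR : ∀ x ∈ W, x ∈ Rk R := fun x hx => P.big (by rw [hNW]; exact W2) x (hWN hx)
  have hnt : ∀ a c, a ≠ 0 → M.t a ∈ Rk R → M.B c a = 0 → M.B c e = 0 ∧ M.B c f = 0 := by
    intro a c ha hta hca
    have hcD : M.t c ∈ D := cent_Rk M P hta (M.t_mul_self a) (fun h => ha (M.t_eq_one h)) (M.t_comm hca)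
    by_contra hcon
    have hc0 : c ∉ Submodule.span (ZMod 2) {e, f} := by
      intro h
      apply hcon
      rcases Mod.mem_span2 h with h | h | h | h <;> rw [h] <;>
        simp [M.zerol, M.alt, hef, hfe, M.addl]
    obtain ⟨u, hu, huv⟩ := M.sep _ c hc0
    have hue : M.B u e = 0 := by rw [M.symm]; exact hu e (Submodule.subset_span (by simp))
    have huf : M.B u f = 0 := by rw [M.symm]; exact hu f (Submodule.subset_span (by simp))
    have h1 := pres (M.t c) (fun y hy => by
      have h2 := P.norm _ hcD y (hWN hy)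
      rwa [hNW] at h2) u hue huf
    rw [M.t_move (by rw [M.symm]; exact huv), M.addl, M.addl, hue, huf, zero_add, zero_add] at h1
    exact hcon h1
  have nte : ∀ a, a ≠ 0 → (∃ c, M.B c a = 0 ∧ (M.B c e = 1 ∨ M.B c f = 1)) → M.t a ∉ Rk R := by
    rintro a ha ⟨c, h1, h2⟩ hmem
    obtain ⟨h3, h4⟩ := hnt a c ha hmem h1
    rw [h3, h4] at h2
    revert h2
    decide
  have nt1 : M.t e ∉ Rk R := by
    apply nte e he
    obtain ⟨c, h1, h2⟩ := M.sep1 hf (Ne.symm hne)
    exact ⟨c, by rw [M.symm]; exact h1, Or.inr (by rw [M.symm]; exact h2)⟩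
  have nt2 : M.t f ∉ Rk R := by
    apply nte f hf
    obtain ⟨c, h1, h2⟩ := M.sep1 he hne
    exact ⟨c, by rw [M.symm]; exact h1, Or.inl (by rw [M.symm]; exact h2)⟩
  have nt3 : M.t (e + f) ∉ Rk R := by
    apply nte (e + f) hef0
    obtain ⟨c, h1, h2⟩ := M.sep1 he hne'
    exact ⟨c, by rw [M.symm]; exact h1, Or.inl (by rw [M.symm]; exact h2)⟩
  have hRW : ∀ y ∈ Rk R, y ∈ W := by
    intro y hy
    have h1 : ∀ x ∈ W, y * x * y⁻¹ ∈ W := by
      intro x hx
      have h2 := P.mapN _ hy x (hWN hx)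
      rw [hNW, MulAut.conj_apply] at h2
      exact h2
    rcases M.fix_two_perp hef he hf hne (key y h1 (ctl_Rk P hC hy)) with h | h | h | h | h | h | h | h
    · rw [h]; exact W.one_mem
    · rw [h] at hy; exact absurd hy nt1
    · rw [h] at hy; exact absurd hy nt2
    · rw [h] at hy; exact absurd hy nt3
    · exact memW.mpr (Or.inr (Or.inl h))
    · exact memW.mpr (Or.inr (Or.inr (Or.inl h)))
    · exact memW.mpr (Or.inr (Or.inr (Or.inr h)))
    · exfalso
      rw [h] at hy
      have h2 := (Rk R).mul_mem ((Rk R).inv_mem (hWR _ (memW.mpr (Or.inr (Or.inl rfl))))) hy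
      rw [show M.s e f = M.t e * M.t f * M.t (e + f) from rfl, inv_mul_cancel_left] at h2
      exact nt3 h2
  obtain ⟨d, hd1, hd2, hdd⟩ := exists_swap M hef he hf
  have hdD : d ∈ D := by
    apply hC
    have h1 := M.conj_tt d e f
    rw [hd1, hd2, ← M.t_comm hef, mul_inv_eq_iff_eq_mul] at h1
    exact h1
  have hfin := hinn (by rw [hNW]; exact W2) (by rw [hNW]; exact commW) (by
    intro r hr
    obtain ⟨k, rfl⟩ := out r
    exact ⟨k, hWN (hRW k hr), rfl⟩) d hdD hdd _ hs'
  have h1 := M.conj_tt d e (e + f)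
  rw [hfin, mul_inv_cancel_right, map_add, hd1, hd2, add_comm f e] at h1
  exact hne (M.t_inj (mul_right_cancel h1))

/-! ### Cases 4 and 5 -/

theorem case_four [Finite K] (P : Pair D N R) (out : ∀ α : MulAut K, ∃ k, α = MulAut.conj k)
    (hTT : ∀ a b, M.B a b = 0 → M.t a * M.t b ∈ N → a = b)
    (hS : ∀ a b, M.B a b = 0 → M.s a b ∈ N → a = 0 ∨ b = 0 ∨ a = b) {w : K} (hw : w ∈ N) (hww : w * w = 1)
    (hw1 : w ≠ 1) : False := by
  have hT : ∀ v, M.t v ∈ N → v = 0 := fun v hv => hTT v 0 (M.zeror v) (by rw [M.t_zero, mul_one]; exact hv)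
  have hC : ∀ d, d * w = w * d → d ∈ D := P.centN _ hw hww hw1
  have hwt : ∀ z, w ≠ M.t z := by
    rintro z rfl
    apply hw1
    rw [hT z hw, M.t_zero]
  have hN := P.eq_pair (noCore M out) hw hww hw1 (by
    intro x hx hxw
    rcases M.gen_four hww hw1 hTT hS hxw (ctl_N P hC hx) with h | h | ⟨z, hz, h | h⟩
    · left; exact h
    · right; exact h
    · rw [h] at hx; exact absurd (hT _ hx) hz
    · exfalso
      rw [h] at hx
      have h1 := N.mul_mem (N.inv_mem hw) hx
      rw [inv_mul_cancel_left] at h1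
      exact hz (hT _ h1))
  apply finish M P out hw hww hw1 hwt hN
  intro y hy hnt hwR hyw hyc
  rcases M.gen_four hww hw1 hTT hS hyw hyc with h | h | ⟨z, hz, h | h⟩
  · left; exact h
  · right; exact h
  · rw [h] at hy; exact absurd hy (hnt z hz)
  · exfalso
    rw [h] at hy
    have h1 := (Rk R).mul_mem ((Rk R).inv_mem hwR) hy
    rw [inv_mul_cancel_left] at h1
    exact hnt z hz h1

include M in
theorem case_five [Finite K] (P : Pair D N R) (out : ∀ α : MulAut K, ∃ k, α = MulAut.conj k) (hN : N = ⊥) :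
    False := by
  have hTT : ∀ a b, M.B a b = 0 → M.t a * M.t b ∈ N → a = b := by
    intro a b _ h
    rw [hN, mem_bot] at h
    by_contra hab
    exact tt_ne_one M hab h
  have hS : ∀ a b, M.B a b = 0 → M.s a b ∈ N → a = 0 ∨ b = 0 ∨ a = b := by
    intro a b hab h
    rw [hN, mem_bot] at h
    by_contra hcon
    push Not at hcon
    exact s_ne_t M (z := 0) hab hcon.1 hcon.2.1 hcon.2.2 (by rw [M.t_zero]; exact h)
  have comm : ∀ y ∈ Rk R, ∀ d ∈ D, y * d = d * y := by
    intro y hy d hd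
    have h1 := comm_Rk P hy hd
    rw [hN, mem_bot] at h1
    calc y * d = y * d * 1 := by rw [mul_one]
      _ = y * d * (d * (y * d⁻¹ * y⁻¹))⁻¹ := by rw [h1, inv_one, mul_one]
      _ = _ := by
        have h2 : d * (y * d⁻¹ * y⁻¹) = 1 := h1
        have h3 : d * y = y * d := by
          calc d * y = d * (y * d⁻¹ * y⁻¹) * (y * d) := by group
            _ = y * d := by rw [h2, one_mul]
        rw [h1, inv_one, mul_one, h3]
  obtain ⟨w, hwR, _, _, hww, _, hw1, _, _⟩ := four M P out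
  have hwD : w ∈ D := cent_Rk M P hwR hww hw1 rfl
  -- some transvection in `Rk`
  obtain ⟨z, hz, hzR⟩ : ∃ z, z ≠ 0 ∧ M.t z ∈ Rk R := by
    by_contra hcon
    push Not at hcon
    apply not_pair M P out w
    intro y hy
    rcases M.gen_four hww hw1 hTT hS (comm y hy w hwD)
        (ctl_Rk P (fun d hd => cent_Rk M P hwR hww hw1 hd) hy) with h | h | ⟨z, hz, h | h⟩
    · left; exact h
    · right; exact h
    · rw [h] at hy; exact absurd hy (hcon z hz)
    · exfalso
      rw [h] at hy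
      have h1 := (Rk R).mul_mem ((Rk R).inv_mem hwR) hy
      rw [inv_mul_cancel_left] at h1
      exact hcon z hz h1
  have hz1 : M.t z ≠ 1 := fun h => hz (M.t_eq_one h)
  have hzD : M.t z ∈ D := cent_Rk M P hzR (M.t_mul_self z) hz1 rfl
  apply not_pair M P out (M.t z)
  intro y hy
  apply M.fix_perp
  intro v hv
  exact M.gen_fix (M.t_mul_self z) hz1 hTT (comm y hy _ hzD)
    (ctl_Rk P (fun d hd => cent_Rk M P hzR (M.t_mul_self z) hz1 hd) hy) v (M.t_fix hv)

/-- **no pair for `Sp_2n(2)`, `n ≥ 4`** -/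
theorem pair_false [Finite K] (P : Pair D N R) (hinn : Inn D N R) (out : ∀ α : MulAut K, ∃ k, α = MulAut.conj k)
    (big : ∀ a b c : V, ∃ x, M.B x a = 0 ∧ M.B x b = 0 ∧ M.B x c = 0 ∧ x ∉ Submodule.span (ZMod 2) {a, b, c}) :
    False := by
  by_cases hT : ∀ v, M.t v ∈ N → v = 0
  swap
  · push Not at hT
    obtain ⟨e, he, he0⟩ := hT
    exact case_one M P out big he0 he
  by_cases hS : ∀ a b, M.B a b = 0 → M.s a b ∈ N → a = 0 ∨ b = 0 ∨ a = b
  swap
  · push Not at hS
    obtain ⟨e, f, hef, hs, he, hf, hne⟩ := hS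
    exact case_two M P out big hT hef he hf hne hs
  by_cases hTT : ∀ a b, M.B a b = 0 → M.t a * M.t b ∈ N → a = b
  swap
  · push Not at hTT
    obtain ⟨e, f, hef, hs, hne⟩ := hTT
    have he : e ≠ 0 := by
      rintro rfl
      rw [M.t_zero, one_mul] at hs
      exact hne (hT _ hs).symm
    have hf : f ≠ 0 := by
      rintro rfl
      rw [M.t_zero, mul_one] at hs
      exact hne (hT _ hs)
    by_cases hs' : M.t e * M.t (e + f) ∈ N
    · exact case_three_b M P hinn out big hT hS hef he hf hne hs hs'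
    · exact case_three_a M P out big hT hS hef he hf hne hs hs'
  by_cases hN : ∀ n ∈ N, n * n = 1 → n = 1
  · exact case_five M P out (P.eq_bot (noCore M out) hN)
  · push Not at hN
    obtain ⟨w, hw, hww, hw1⟩ := hN
    exact case_four M P out hTT hS hw hww hw1

end Cfsg.Agent.OddHalf.D4.Sp2.Main
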