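import Mathlib
import Cfsg.Agent.Lib.Cores
import Cfsg.Agent.OddHalf.D4.Cut
import Cfsg.Agent.OddHalf.D4.KPairG
import Cfsg.Agent.OddHalf.D4.Sp2.Main
import Cfsg.Agent.OddHalf.D4.Sp2.Inst

/-!
# ODD, D4: the row `K ≅ Sp_2m(2)`, `m ≥ 4`
-/

set_option autoImplicit false

open Cfsg Subgroup
open Cfsg.Agent.OddHalf.Iface

namespace Cfsg.Agent.OddHalf.D4.Sp2.Row

universe u

theorem oddCore_eq_bot {G : Type u} [Group G] [Finite G] [IsSimpleGroup G] {K : Subgroup G}
    (hrk : ¬ PRankLE 2 1 ↥(centralizer (K : Set G))) : oddCore G = ⊥ := by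
  obtain ⟨a, b, ha, hb, ha2, hb2, hab, hne⟩ := EvenPair.exists_two_of_not_pRankLE hrk
  have hn : (oddCore G).Normal := inferInstance
  rcases IsSimpleGroup.eq_bot_or_eq_top_of_normal _ hn with h | h
  · exact h
  · exfalso
    have h1 := Cfsg.Agent.Lib.Cores.pPrimeCore_coprime (G := G) 2
    have h2 : pPrimeCore 2 G = ⊤ := h
    rw [h2, Nat.card_congr (topEquiv (G := G)).toEquiv] at h1
    have h3 : 2 ∣ Nat.card G := by
      rw [← ha2]
      exact orderOf_dvd_natCard a
    have h4 : Nat.gcd 2 (Nat.card G) = 2 := Nat.gcd_eq_left h3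
    rw [Nat.Coprime] at h1
    rw [Nat.gcd_comm, h4] at h1
    exact absurd h1 (by norm_num)

/-- **D4, the row of `Sp_2m(2)`, `m ≥ 4`.** -/
theorem sp2 (h1173 : ∀ (G : Type u) [Group G] [Finite G], oddCore G = ⊥ → EvenPair.H1173 G) :
    Cut.Row1.{u} (fun K _ => Cut.Sp2 K) := by
  intro G _ C K S hrk hZ hP
  obtain ⟨F, _, _, m, hF, hm, ⟨e⟩⟩ := hP
  have := C.fin
  have hG := C.simple
  obtain ⟨e₀⟩ := Inst.exists_equiv (m := m) (by omega) hF
  let e' : ↥K ≃* Inst.X m := e.trans e₀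
  let M := Inst.congr (Inst.modX m) e'
  have hs : IsSimpleGroup ↥K := by
    have := Cfsg.Agent.S0270.result (F := F) m (by omega) (fun h => by omega)
    exact e.isSimpleGroup
  have cen : ∀ x ∈ K, x ∈ centralizer (K : Set G) → x = 1 := by
    intro x hx hxc
    have h1 : (⟨x, hx⟩ : ↥K) ∈ center ↥K := by
      rw [mem_center_iff]
      intro y
      exact Subtype.ext (mem_centralizer_iff.mp hxc y y.2)
    rw [hZ, mem_bot] at h1
    exact congrArg Subtype.val h1
  have hout : ∀ α : MulAut ↥K, ∃ k, α = MulAut.conj k := Inst.inner_of_equiv (by omega) e'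
  refine KPairG.false_of_pair (h1173 G (oddCore_eq_bot hrk)) S.std hs cen hrk
    (KPairG.innSyl_of_inner (fun z hz => Main.center_trivial M hz) hout) ?_
  intro D N R P hinn
  refine Main.pair_false M P (hinn hout) hout ?_
  intro a b c
  exact Inst.big hm a b c

end Cfsg.Agent.OddHalf.D4.Sp2.Row
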